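import Mathlib.FieldTheory.IsAlgClosed.Basic
import Mathlib.Analysis.Complex.Polynomial.Basic
import Mathlib.RingTheory.Polynomial.GaussLemma
import Mathlib.FieldTheory.Minpoly.IsIntegrallyClosed
import Mathlib.FieldTheory.Perfect
import Mathlib.RingTheory.Polynomial.RationalRoot

/-!
# Polynomials all of whose complex roots have absolute value `√q`
-/

set_option autoImplicit false

noncomputable section

namespace Groth.Agent.WeilNum32

open Polynomial

universe u

/-- A monic integral polynomial all of whose complex roots have absolute value `√q`. -/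
structure WeilPoly (q : ℕ) (P : ℤ[X]) : Prop where
  pos : 0 < q
  monic : P.Monic
  roots : ∀ z ∈ P.aroots ℂ, ‖z‖ = Real.sqrt q

theorem WeilPoly.root_ne_zero {q : ℕ} {P : ℤ[X]} (h : WeilPoly q P) {z : ℂ} (hz : z ∈ P.aroots ℂ) :
    z ≠ 0 := by
  intro e
  have := h.roots z hz
  rw [e, norm_zero, eq_comm, Real.sqrt_eq_zero (Nat.cast_nonneg q)] at this
  exact h.pos.ne' (Nat.cast_eq_zero.1 this)

theorem WeilPoly.mul_conj {q : ℕ} {P : ℤ[X]} (h : WeilPoly q P) {z : ℂ} (hz : z ∈ P.aroots ℂ) :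
    z * (starRingEnd ℂ) z = (q : ℂ) := by
  rw [Complex.mul_conj, Complex.normSq_eq_norm_sq, h.roots z hz, Real.sq_sqrt (Nat.cast_nonneg q)]
  simp

theorem map_prod_X_sub_C (P : ℤ[X]) (hP : P.Monic) :
    P.map (algebraMap ℤ ℂ) = ((P.aroots ℂ).map fun z => X - C z).prod :=
  (IsAlgClosed.splits _).eq_prod_roots_of_monic (hP.map _)

theorem eval₂_eq_prod (P : ℤ[X]) (hP : P.Monic) (x : ℂ) :
    aeval x P = ((P.aroots ℂ).map fun z => x - z).prod := by
  rw [aeval_def, ← eval_map, map_prod_X_sub_C P hP, eval_multiset_prod, Multiset.map_map]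
  simp

theorem aroots_conj (P : ℤ[X]) : (P.aroots ℂ).map (starRingEnd ℂ) = P.aroots ℂ := by
  have h := Polynomial.Splits.roots_map (f := P.map (algebraMap ℤ ℂ))
    (IsAlgClosed.splits _) (starRingEnd ℂ)
  rw [Polynomial.map_map, RingHom.ext_int ((starRingEnd ℂ).comp (algebraMap ℤ ℂ)) (algebraMap ℤ ℂ)] at h
  rw [aroots_def]
  exact h.symm

theorem card_aroots (P : ℤ[X]) (hP : P.Monic) : Multiset.card (P.aroots ℂ) = P.natDegree := by
  rw [aroots_def, ← (IsAlgClosed.splits _).natDegree_eq_card_roots,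
    hP.natDegree_map (algebraMap ℤ ℂ)]

/-- The functional equation. -/
theorem WeilPoly.functional_eq {q : ℕ} {P : ℤ[X]} (h : WeilPoly q P) {x : ℂ} (hx : x ≠ 0) :
    x ^ P.natDegree * aeval ((q : ℂ) / x) P = (P.coeff 0 : ℂ) * aeval x P := by
  have h0 : (P.coeff 0 : ℂ) = ((P.aroots ℂ).map fun z => 0 - z).prod := by
    rw [← eval₂_eq_prod P h.monic, aeval_def, eval₂_at_zero, algebraMap_int_eq, eq_intCast]
  rw [eval₂_eq_prod P h.monic, eval₂_eq_prod P h.monic, h0, ← card_aroots P h.monic,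
    ← Multiset.prod_replicate, ← Multiset.map_const', ← Multiset.prod_map_mul]
  conv_rhs => arg 2; rw [← aroots_conj, Multiset.map_map]
  rw [← Multiset.prod_map_mul]
  refine congrArg Multiset.prod (Multiset.map_congr rfl fun z hz => ?_)
  rw [Function.comp_apply, ← h.mul_conj hz]
  field_simp
  ring

/-- The symmetry of the coefficients. -/
theorem WeilPoly.coeff_symm {q : ℕ} {P : ℤ[X]} (h : WeilPoly q P) {j : ℕ} (hj : j ≤ P.natDegree) :
    P.coeff j * (q : ℤ) ^ j = P.coeff 0 * P.coeff (P.natDegree - j) := by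
  set n := P.natDegree with hn
  set Q : ℂ[X] := ∑ i ∈ Finset.range (n + 1), C ((P.coeff i : ℂ) * (q : ℂ) ^ i) * X ^ (n - i)
  have hQ : Q = C (P.coeff 0 : ℂ) * P.map (algebraMap ℤ ℂ) := by
    refine eq_of_infinite_eval_eq _ _ (Set.Infinite.mono (s := {(0 : ℂ)}ᶜ) ?_ ?_)
    · intro x hx
      have hx' : x ≠ 0 := hx
      show Q.eval x = _
      rw [eval_mul, eval_C, eval_map, ← aeval_def, ← h.functional_eq hx',
        aeval_eq_sum_range, Finset.mul_sum, eval_finsetSum]
      refine Finset.sum_congr rfl fun i hi => ?_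
      rw [eval_mul, eval_C, eval_pow, eval_X, zsmul_eq_mul, div_pow]
      rw [Finset.mem_range] at hi
      have hni : x ^ n = x ^ (n - i) * x ^ i := by rw [← pow_add, Nat.sub_add_cancel (by omega)]
      rw [hni]
      field_simp
    · exact (Set.finite_singleton 0).infinite_compl
  have := congrArg (fun R : ℂ[X] => R.coeff (n - j)) hQ
  simp only [Q, finsetSum_coeff, coeff_C_mul, coeff_X_pow, coeff_map, algebraMap_int_eq,
    eq_intCast, mul_ite, mul_one, mul_zero] at this
  rw [Finset.sum_eq_single j, if_pos rfl] at this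
  · exact_mod_cast this
  · intro i hi hne
    rw [Finset.mem_range] at hi
    rw [if_neg (by omega)]
  · intro hj'
    exact absurd (Finset.mem_range.2 (by omega)) hj'

theorem WeilPoly.coeff_zero_sq {q : ℕ} {P : ℤ[X]} (h : WeilPoly q P) :
    P.coeff 0 ^ 2 = (q : ℤ) ^ P.natDegree := by
  have := h.coeff_symm le_rfl
  rw [h.monic.coeff_natDegree, one_mul, Nat.sub_self] at this
  rw [sq, this]

theorem WeilPoly.coeff_zero_ne_zero {q : ℕ} {P : ℤ[X]} (h : WeilPoly q P) : P.coeff 0 ≠ 0 := by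
  intro e
  have := h.coeff_zero_sq
  rw [e, zero_pow two_ne_zero] at this
  exact pow_ne_zero _ (Nat.cast_ne_zero.2 h.pos.ne') this.symm

theorem WeilPoly.prod {q : ℕ} (hq : 0 < q) {ι : Type*} (s : Finset ι) (P : ι → ℤ[X])
    (h : ∀ i ∈ s, WeilPoly q (P i)) : WeilPoly q (∏ i ∈ s, P i) := by
  classical
  refine ⟨hq, monic_prod_of_monic _ _ fun i hi => (h i hi).monic, fun z hz => ?_⟩
  rw [aroots_def, Polynomial.map_prod, roots_prod] at hz
  · obtain ⟨i, hi, hz⟩ := Multiset.mem_bind.1 hz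
    exact (h i hi).roots z hz
  · exact Finset.prod_ne_zero_iff.2 fun i hi => ((h i hi).monic.map _).ne_zero

theorem natDegree_prod_minpoly {ι : Type*} [Fintype ι] (P : ι → ℤ[X]) (h : ∀ i, (P i).Monic) :
    (∏ i, P i).natDegree = ∑ i, (P i).natDegree :=
  natDegree_prod_of_monic _ _ fun i _ => h i

/-- The middle symmetry when the degree is even. -/
theorem WeilPoly.exists_sign {q : ℕ} {P : ℤ[X]} (h : WeilPoly q P) {D : ℕ}
    (hD : P.natDegree = 2 * D) :
    ∃ c : ℤ, c * c = 1 ∧ P.coeff 0 = c * (q : ℤ) ^ D ∧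
      ∀ r ≤ D, P.coeff (D - r) = c * (q : ℤ) ^ r * P.coeff (D + r) := by
  have h0 := h.coeff_zero_sq
  rw [hD, mul_comm 2 D, pow_mul] at h0
  obtain ⟨c, hc, hc0⟩ : ∃ c : ℤ, c * c = 1 ∧ P.coeff 0 = c * (q : ℤ) ^ D := by
    rcases sq_eq_sq_iff_eq_or_eq_neg.1 h0 with e | e
    · exact ⟨1, by norm_num, by rw [e, one_mul]⟩
    · exact ⟨-1, by norm_num, by rw [e, neg_one_mul]⟩
  refine ⟨c, hc, hc0, fun r hr => ?_⟩
  have := h.coeff_symm (j := D - r) (by omega)
  rw [hc0, hD, show 2 * D - (D - r) = D + r by omega,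
    show (q : ℤ) ^ D = (q : ℤ) ^ r * (q : ℤ) ^ (D - r) by rw [← pow_add]; congr 1; omega] at this
  have hq : (q : ℤ) ^ (D - r) ≠ 0 := pow_ne_zero _ (Nat.cast_ne_zero.2 h.pos.ne')
  refine mul_right_cancel₀ hq ?_
  linear_combination this

theorem WeilPoly.of_minpoly {p e : ℕ} (hp : p.Prime) {K : Type u} [Field K] [CharZero K] {π : K}
    (hπ : IsIntegral ℤ π)
    (hweil : ∀ z ∈ (minpoly ℤ π).aroots ℂ, ‖z‖ = Real.sqrt ((p : ℝ) ^ e)) :
    WeilPoly (p ^ e) (minpoly ℤ π) :=
  ⟨pow_pos hp.pos e, minpoly.monic hπ, fun z hz => by rw [hweil z hz, Nat.cast_pow]⟩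

theorem WeilPoly.pi_ne_zero {q : ℕ} {K : Type u} [Field K] [CharZero K] {π : K}
    (hπ : IsIntegral ℤ π) (h : WeilPoly q (minpoly ℤ π)) : π ≠ 0 := fun e => by
  refine h.coeff_zero_ne_zero ?_
  have := minpoly.aeval ℤ π
  nth_rewrite 1 [e] at this
  rw [aeval_def, eval₂_at_zero, algebraMap_int_eq, eq_intCast, Int.cast_eq_zero] at this
  exact this

theorem irreducible_minpoly {K : Type u} [Field K] [CharZero K] {π : K} (hπ : IsIntegral ℤ π) :
    Irreducible (minpoly ℤ π) := minpoly.irreducible hπ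

/-- Nonreal Weil polynomials: even degree and positive constant term. -/
theorem nonreal_even {q : ℕ} {P : ℤ[X]} (h : WeilPoly q P) (hirr : Irreducible P)
    (hnr : ∀ z ∈ P.aroots ℂ, z.im ≠ 0) :
    Even P.natDegree ∧ P.coeff 0 = (q : ℤ) ^ (P.natDegree / 2) := by
  classical
  have hQ : Irreducible (P.map (algebraMap ℤ ℚ)) :=
    (h.monic.irreducible_iff_irreducible_map_fraction_map).1 hirr
  have hnd : (P.aroots ℂ).Nodup := by
    rw [aroots_def, show algebraMap ℤ ℂ = (algebraMap ℚ ℂ).comp (algebraMap ℤ ℚ) from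
      (RingHom.ext_int _ _), ← Polynomial.map_map]
    exact nodup_roots ((PerfectField.separable_of_irreducible hQ).map)
  set U := (P.aroots ℂ).filter fun z => 0 < z.im with hU
  set L := (P.aroots ℂ).filter fun z => ¬ 0 < z.im with hL
  have hsplit : U + L = P.aroots ℂ := Multiset.filter_add_not _ _
  have hUL : L = U.map (starRingEnd ℂ) := by
    rw [hU, hL]
    conv_lhs => rw [← aroots_conj P]
    rw [Multiset.filter_map]
    refine congrArg _ (Multiset.filter_congr fun z hz => ?_)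
    rw [Function.comp_apply, Complex.conj_im]
    have := hnr z hz
    constructor
    · intro h1; exact lt_of_le_of_ne (by linarith [not_lt.1 h1]) (Ne.symm this)
    · intro h1; linarith
  have hcard : P.natDegree = Multiset.card U + Multiset.card U := by
    rw [← card_aroots P h.monic, ← hsplit, Multiset.card_add, hUL, Multiset.card_map]
  refine ⟨⟨Multiset.card U, hcard⟩, ?_⟩
  have h0 : (P.coeff 0 : ℂ) = ((P.aroots ℂ).map fun z => 0 - z).prod := by
    rw [← eval₂_eq_prod P h.monic, aeval_def, eval₂_at_zero, algebraMap_int_eq, eq_intCast]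
  rw [← hsplit, Multiset.map_add, Multiset.prod_add, hUL, Multiset.map_map,
    ← Multiset.prod_map_mul,
    Multiset.map_congr rfl (g := fun _ => (q : ℂ)) fun z hz => by
      rw [Function.comp_apply, zero_sub, zero_sub, neg_mul_neg,
        h.mul_conj (Multiset.mem_of_mem_filter hz)],
    Multiset.map_const', Multiset.prod_replicate] at h0
  rw [show P.natDegree / 2 = Multiset.card U by omega]
  exact_mod_cast h0

end Groth.Agent.WeilNum32
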