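import Groth.Agent.WeilNum32.Basic
import Mathlib.Algebra.MvPolynomial.Equiv
import Mathlib.FieldTheory.RatFunc.AsPolynomial
import Mathlib.RingTheory.Regular.RegularSequence
import Mathlib.RingTheory.UniqueFactorizationDomain.Defs
import Mathlib.RingTheory.Polynomial.UniqueFactorization

/-!
# The minimal central order of a family of Weil numbers
-/

set_option autoImplicit false

noncomputable section

namespace Groth.Agent.WeilNum32

open MvPolynomial

universe u

/-- `ℤ[F, V]`. -/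
abbrev PP := MvPolynomial (Fin 2) ℤ

/-- `FV - q`. -/
def fv (q : ℕ) : PP := X 0 * X 1 - C (q : ℤ)

/-- A polynomial in `F`. -/
def inF : Polynomial ℤ →ₐ[ℤ] PP := Polynomial.aeval (X 0 : PP)

theorem inF_X : inF Polynomial.X = (X 0 : PP) := Polynomial.aeval_X _

/-- A polynomial in `V`. -/
def inV : Polynomial ℤ →ₐ[ℤ] PP := Polynomial.aeval (X 1 : PP)

/-- Setting `F = 0`. -/
def setF0 : PP →ₐ[ℤ] Polynomial ℤ := MvPolynomial.aeval ![0, Polynomial.X]

theorem setF0_X0 : setF0 (X 0 : PP) = 0 := by simp [setF0]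
theorem setF0_X1 : setF0 (X 1 : PP) = Polynomial.X := by simp [setF0]

theorem setF0_fv (q : ℕ) : setF0 (fv q) = -Polynomial.C (q : ℤ) := by
  simp [fv, setF0]

theorem exists_decomp (z : PP) : ∃ w, z = inV (setF0 z) + X 0 * w := by
  induction z using MvPolynomial.induction_on with
  | C c => exact ⟨0, by simp [setF0, inV]⟩
  | add a b ha hb =>
    obtain ⟨w, hw⟩ := ha
    obtain ⟨w', hw'⟩ := hb
    refine ⟨w + w', ?_⟩
    conv_lhs => rw [hw, hw']
    rw [map_add, map_add]; ring
  | mul_X a i ha =>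
    obtain ⟨w, hw⟩ := ha
    fin_cases i
    · exact ⟨a, by simp only [Fin.zero_eta, map_mul, setF0_X0, mul_zero, map_zero]; ring⟩
    · refine ⟨w * X 1, ?_⟩
      simp only [Fin.mk_one, map_mul, setF0_X1]
      conv_lhs => rw [hw]
      rw [show inV Polynomial.X = (X 1 : PP) from Polynomial.aeval_X _]
      ring

theorem X0_dvd_of_setF0 {z : PP} (h : setF0 z = 0) : (X 0 : PP) ∣ z := by
  obtain ⟨w, hw⟩ := exists_decomp z
  exact ⟨w, by rw [hw, h, map_zero, zero_add]⟩

/-- Every element times a power of `F` is a polynomial in `F` modulo `FV - q`. -/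
theorem exists_pow_mul (q : ℕ) (z : PP) :
    ∃ (N : ℕ) (G : Polynomial ℤ), X 0 ^ N * z - inF G ∈ Ideal.span ({fv q} : Set PP) := by
  induction z using MvPolynomial.induction_on with
  | C c => exact ⟨0, Polynomial.C c, by simp [inF]⟩
  | add a b ha hb =>
    obtain ⟨N, G, hG⟩ := ha
    obtain ⟨N', G', hG'⟩ := hb
    refine ⟨N + N', Polynomial.X ^ N' * G + Polynomial.X ^ N * G', ?_⟩
    rw [map_add, map_mul, map_mul, map_pow, map_pow, inF_X]
    convert Ideal.add_mem _ (Ideal.mul_mem_left _ (X 0 ^ N' : PP) hG)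
      (Ideal.mul_mem_left _ (X 0 ^ N : PP) hG') using 1
    ring
  | mul_X a i ha =>
    obtain ⟨N, G, hG⟩ := ha
    fin_cases i
    · refine ⟨N, G * Polynomial.X, ?_⟩
      rw [map_mul, inF_X]
      convert Ideal.mul_mem_right (X 0 : PP) _ hG using 1
      simp only [Fin.zero_eta]; ring
    · refine ⟨N + 1, G * Polynomial.C (q : ℤ), ?_⟩
      rw [map_mul, show inF (Polynomial.C (q : ℤ)) = (C (q : ℤ) : PP) by simp [inF]]
      convert Ideal.add_mem _ (Ideal.mul_mem_right (X 0 * X 1 : PP) _ hG)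
        (Ideal.mul_mem_left _ (inF G) (Ideal.subset_span (Set.mem_singleton (fv q)))) using 1
      simp only [Fin.mk_one, fv]; ring

/-- `F` is a non zero divisor modulo `FV - q`. -/
theorem mem_of_X0_mul_mem {q : ℕ} (hq : q ≠ 0) {z : PP}
    (h : X 0 * z ∈ Ideal.span ({fv q} : Set PP)) : z ∈ Ideal.span ({fv q} : Set PP) := by
  rw [Ideal.mem_span_singleton] at h ⊢
  obtain ⟨w, hw⟩ := h
  have e := congrArg setF0 hw
  rw [map_mul, map_mul, setF0_X0, zero_mul, setF0_fv, eq_comm, mul_eq_zero] at e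
  obtain ⟨w', rfl⟩ := X0_dvd_of_setF0 (e.resolve_left (by simpa using hq))
  exact ⟨w', mul_left_cancel₀ (MvPolynomial.X_ne_zero 0) (by rw [hw]; ring)⟩

theorem mem_of_X0_pow_mul_mem {q : ℕ} (hq : q ≠ 0) {z : PP} : ∀ {N : ℕ},
    X 0 ^ N * z ∈ Ideal.span ({fv q} : Set PP) → z ∈ Ideal.span ({fv q} : Set PP) := by
  intro N
  induction N with
  | zero => simp
  | succ N ih => exact fun h => ih (mem_of_X0_mul_mem hq (by rwa [pow_succ', mul_assoc] at h))

/-- `F ↦ T`, `V ↦ q/T`. -/
def psi (q : ℕ) : PP →ₐ[ℤ] RatFunc ℚ := MvPolynomial.aeval ![RatFunc.X, (q : RatFunc ℚ) / RatFunc.X]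

theorem psi_X0 (q : ℕ) : psi q (X 0 : PP) = RatFunc.X := by simp [psi]

theorem psi_fv (q : ℕ) : psi q (fv q) = 0 := by
  have hX : (RatFunc.X : RatFunc ℚ) ≠ 0 := RatFunc.X_ne_zero
  simp [psi, fv]
  field_simp
  ring

theorem psi_inF (q : ℕ) (G : Polynomial ℤ) :
    psi q (inF G) = algebraMap (Polynomial ℚ) (RatFunc ℚ) (G.map (Int.castRingHom ℚ)) := by
  induction G using Polynomial.induction_on' with
  | add a b ha hb => simp only [map_add, Polynomial.map_add, ha, hb]
  | monomial m c =>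
    rw [inF, Polynomial.aeval_monomial, map_mul, map_pow, psi_X0, Polynomial.map_monomial,
      ← Polynomial.C_mul_X_pow_eq_monomial, map_mul, map_pow, RatFunc.algebraMap_X,
      RatFunc.algebraMap_C]
    simp

theorem mem_span_fv_iff {q : ℕ} (hq : q ≠ 0) (z : PP) :
    z ∈ Ideal.span ({fv q} : Set PP) ↔ psi q z = 0 := by
  constructor
  · rw [Ideal.mem_span_singleton]
    rintro ⟨w, rfl⟩
    rw [map_mul, psi_fv, zero_mul]
  · intro h
    obtain ⟨N, G, hG⟩ := exists_pow_mul q z
    obtain ⟨w, hw⟩ := Ideal.mem_span_singleton.1 hG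
    have e := congrArg (psi q) hw
    rw [map_sub, map_mul, h, mul_zero, zero_sub, map_mul, psi_fv, zero_mul, neg_eq_zero, psi_inF,
      map_eq_zero_iff _ (RatFunc.algebraMap_injective ℚ), Polynomial.map_eq_zero_iff
        (Int.castRingHom ℚ).injective_int] at e
    rw [e, map_zero, sub_zero] at hG
    exact mem_of_X0_pow_mul_mem hq hG

theorem mul_mem_span_fv {q : ℕ} (hq : q ≠ 0) {a b : PP}
    (h : a * b ∈ Ideal.span ({fv q} : Set PP)) :
    a ∈ Ideal.span ({fv q} : Set PP) ∨ b ∈ Ideal.span ({fv q} : Set PP) := by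
  rw [mem_span_fv_iff hq, map_mul, mul_eq_zero] at h
  rwa [mem_span_fv_iff hq, mem_span_fv_iff hq]

/-! ### The symmetric polynomial -/

theorem fv_pow (q j : ℕ) :
    (X 0 : PP) ^ j * X 1 ^ j - C ((q : ℤ) ^ j) ∈ Ideal.span ({fv q} : Set PP) := by
  rw [Ideal.mem_span_singleton, ← mul_pow, map_pow]
  exact sub_dvd_pow_sub_pow _ _ _

/-- The symmetric polynomial of `P`. -/
theorem WeilPoly.exists_h {q : ℕ} {P : Polynomial ℤ} (hP : WeilPoly q P) {D : ℕ}
    (hD : P.natDegree = 2 * D) :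
    ∃ h : PP, X 0 ^ D * h - inF P ∈ Ideal.span ({fv q} : Set PP) ∧
      IsUnit ((setF0 h).coeff D) ∧ (setF0 h).natDegree ≤ D ∧ (setF0 h).coeff 0 = P.coeff D := by
  obtain ⟨c, hc, -, hsym⟩ := hP.exists_sign hD
  refine ⟨∑ r ∈ Finset.range (D + 1), C (P.coeff (D + r)) * X 0 ^ r +
    ∑ r ∈ Finset.range D, C (c * P.coeff (D + (r + 1))) * X 1 ^ (r + 1), ?_, ?_⟩
  · have hP' : inF P = ∑ r ∈ Finset.range (D + 1), C (P.coeff (D + r)) * X 0 ^ (D + r) +
        ∑ r ∈ Finset.range D, C (P.coeff (D - (r + 1))) * X 0 ^ (D - (r + 1)) := by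
      rw [inF, Polynomial.aeval_eq_sum_range, hD, show 2 * D + 1 = D + (D + 1) by ring,
        Finset.sum_range_add, add_comm, ← Finset.sum_range_reflect _ D]
      refine congrArg₂ (· + ·) (Finset.sum_congr rfl fun r _ => ?_)
        (Finset.sum_congr rfl fun r _ => ?_)
      · rw [MvPolynomial.smul_eq_C_mul]
      · rw [MvPolynomial.smul_eq_C_mul, show D - (r + 1) = D - 1 - r by omega]
    rw [hP', mul_add, add_sub_add_comm, Finset.mul_sum, Finset.mul_sum, ← Finset.sum_sub_distrib,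
      ← Finset.sum_sub_distrib]
    refine Ideal.add_mem _ (Ideal.sum_mem _ fun r _ => ?_) (Ideal.sum_mem _ fun r hr => ?_)
    · convert Ideal.zero_mem _ using 1
      ring
    · rw [Finset.mem_range] at hr
      rw [hsym (r + 1) (by omega)]
      convert Ideal.mul_mem_left _ (C (c * P.coeff (D + (r + 1))) * X 0 ^ (D - (r + 1)) : PP)
        (fv_pow q (r + 1)) using 1
      simp only [map_mul, map_pow]
      conv_lhs => rw [show (X 0 : PP) ^ D = X 0 ^ (D - (r + 1)) * X 0 ^ (r + 1) by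
        rw [← pow_add, Nat.sub_add_cancel (by omega : r + 1 ≤ D)]]
      ring
  · have e : setF0 (∑ r ∈ Finset.range (D + 1), C (P.coeff (D + r)) * X 0 ^ r +
        ∑ r ∈ Finset.range D, C (c * P.coeff (D + (r + 1))) * X 1 ^ (r + 1) : PP) =
      Polynomial.C (P.coeff D) +
        ∑ r ∈ Finset.range D, Polynomial.C (c * P.coeff (D + (r + 1))) * Polynomial.X ^ (r + 1) := by
      rw [map_add, map_sum, map_sum, Finset.sum_eq_single 0]
      · refine congrArg₂ (· + ·) ?_ (Finset.sum_congr rfl fun r _ => ?_)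
        · simp [setF0]
        · simp [setF0]
      · intro r _ hr
        rw [map_mul, map_pow, setF0_X0, zero_pow hr, mul_zero]
      · simp
    rw [e]
    refine ⟨?_, ?_, ?_⟩
    · rcases Nat.eq_zero_or_pos D with rfl | hD0
      · have : P.coeff 0 = 1 := by
          have := hP.monic.coeff_natDegree
          rwa [hD, mul_zero] at this
        simp [this]
      · rw [Polynomial.coeff_add, Polynomial.coeff_C, if_neg hD0.ne', zero_add,
          Polynomial.finsetSum_coeff, Finset.sum_eq_single (D - 1),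
          Polynomial.coeff_C_mul_X_pow, if_pos (by omega),
          show D + (D - 1 + 1) = P.natDegree by omega, hP.monic.coeff_natDegree, mul_one]
        · exact IsUnit.of_mul_eq_one c hc
        · intro r hr hne
          rw [Finset.mem_range] at hr
          rw [Polynomial.coeff_C_mul_X_pow, if_neg (by omega)]
        · intro h'; exact absurd (Finset.mem_range.2 (by omega)) h'
    · refine (Polynomial.natDegree_add_le _ _).trans (max_le (by simp) ?_)
      refine Polynomial.natDegree_sum_le_of_forall_le _ _ fun r hr => ?_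
      rw [Finset.mem_range] at hr
      exact (Polynomial.natDegree_C_mul_X_pow_le _ _).trans (by omega)
    · simp

/-! ### The family -/

variable {ι : Type} [Fintype ι] {K : ι → Type u} [∀ i, Field (K i)] [∀ i, CharZero (K i)]

/-- `F ↦ (π i)`, `V ↦ (q / π i)`. -/
def phi (q : ℕ) (π : ∀ i, K i) : PP →ₐ[ℤ] ((i : ι) → K i) :=
  MvPolynomial.aeval ![fun i => π i, fun i => (q : K i) / π i]

/-- The product of the minimal polynomials. -/
def prodPoly (π : ∀ i, K i) : Polynomial ℤ := ∏ i, minpoly ℤ (π i)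

theorem phi_X0 (q : ℕ) (π : ∀ i, K i) : phi q π (X 0) = fun i => π i := by simp [phi]

theorem phi_X1 (q : ℕ) (π : ∀ i, K i) : phi q π (X 1) = fun i => (q : K i) / π i := by
  simp [phi]

theorem phi_inF (q : ℕ) (π : ∀ i, K i) (G : Polynomial ℤ) (i : ι) :
    phi q π (inF G) i = Polynomial.aeval (π i) G := by
  rw [inF, ← Polynomial.aeval_algHom_apply, phi_X0]
  exact (Polynomial.aeval_algHom_apply (Pi.evalAlgHom ℤ K i) _ G).symm

theorem phi_fv (q : ℕ) (π : ∀ i, K i) (hπ : ∀ i, π i ≠ 0) : phi q π (fv q) = 0 := by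
  funext i
  simp [fv, phi, mul_div_cancel₀ _ (hπ i)]

variable (π : ∀ i, K i) (hint : ∀ i, IsIntegral ℤ (π i))
  (hinj : ∀ i j, minpoly ℤ (π i) = minpoly ℤ (π j) → i = j)

include hint in
theorem prodPoly_monic : (prodPoly π).Monic :=
  Polynomial.monic_prod_of_monic _ _ fun i _ => minpoly.monic (hint i)

include hint in
theorem natDegree_prodPoly : (prodPoly π).natDegree = ∑ i, (minpoly ℤ (π i)).natDegree :=
  natDegree_prod_minpoly _ fun i => minpoly.monic (hint i)

include hint in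
theorem weilPoly_prodPoly {q : ℕ} (hq : 0 < q) (hW : ∀ i, WeilPoly q (minpoly ℤ (π i))) :
    WeilPoly q (prodPoly π) := WeilPoly.prod hq _ _ fun i _ => hW i

include hint hinj in
theorem prodPoly_dvd_iff (G : Polynomial ℤ) :
    prodPoly π ∣ G ↔ ∀ i, Polynomial.aeval (π i) G = 0 := by
  refine ⟨fun h i => ?_, fun h => ?_⟩
  · have hd : minpoly ℤ (π i) ∣ prodPoly π :=
      Finset.dvd_prod_of_mem (fun j => minpoly ℤ (π j)) (Finset.mem_univ i)
    exact Polynomial.aeval_eq_zero_of_dvd_aeval_eq_zero (hd.trans h) (minpoly.aeval ℤ (π i))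
  · refine Fintype.prod_dvd_of_isRelPrime (fun i j hne => ?_)
      fun i => minpoly.isIntegrallyClosed_dvd (hint i) (h i)
    refine (minpoly.irreducible (hint i)).isRelPrime_iff_not_dvd.2 fun hd => hne (hinj i j ?_)
    exact Polynomial.eq_of_monic_of_associated (minpoly.monic (hint i)) (minpoly.monic (hint j))
      ((minpoly.irreducible (hint i)).associated_of_dvd (minpoly.irreducible (hint j)) hd)

include hint in
theorem phi_prodPoly (q : ℕ) : phi q π (inF (prodPoly π)) = 0 := by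
  funext i
  rw [phi_inF, Pi.zero_apply]
  have hd : minpoly ℤ (π i) ∣ prodPoly π :=
    Finset.dvd_prod_of_mem (fun j => minpoly ℤ (π j)) (Finset.mem_univ i)
  exact Polynomial.aeval_eq_zero_of_dvd_aeval_eq_zero hd (minpoly.aeval ℤ (π i))

variable {q : ℕ} (hq : 0 < q) (hW : ∀ i, WeilPoly q (minpoly ℤ (π i)))

include hint hW in
theorem pi_ne_zero (i : ι) : π i ≠ 0 := WeilPoly.pi_ne_zero (hint i) (hW i)

include hint hinj hW in
/-- An element of the kernel, times a power of `F`, is a multiple of `P(F)`. -/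
theorem ker_exists_pow_mul {z : PP} (hz : phi q π z = 0) :
    ∃ (N : ℕ) (g : Polynomial ℤ),
      X 0 ^ N * z - inF (prodPoly π * g) ∈ Ideal.span ({fv q} : Set PP) := by
  obtain ⟨N, G, hG⟩ := exists_pow_mul q z
  obtain ⟨g, rfl⟩ : prodPoly π ∣ G := by
    rw [prodPoly_dvd_iff π hint hinj]
    intro i
    obtain ⟨w, hw⟩ := Ideal.mem_span_singleton.1 hG
    have e := congrFun (congrArg (phi q π) hw) i
    rw [map_sub, map_mul, hz, mul_zero, zero_sub, map_mul, phi_fv q π (pi_ne_zero π hint hW),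
      zero_mul, Pi.neg_apply, phi_inF, Pi.zero_apply, neg_eq_zero] at e
    exact e
  exact ⟨N, g, hG⟩

variable {D : ℕ} (hD : (prodPoly π).natDegree = 2 * D) (h : PP)
  (hh : X 0 ^ D * h - inF (prodPoly π) ∈ Ideal.span ({fv q} : Set PP))

include hint hW hh in
theorem phi_h : phi q π h = 0 := by
  obtain ⟨w, hw⟩ := Ideal.mem_span_singleton.1 hh
  have e := congrArg (phi q π) hw
  rw [map_sub, map_mul, phi_prodPoly π hint, map_mul, phi_fv q π (pi_ne_zero π hint hW), zero_mul,
    sub_zero] at e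
  funext i
  have e' := congrFun e i
  rw [map_pow, phi_X0, Pi.mul_apply, Pi.pow_apply, Pi.zero_apply, mul_eq_zero] at e'
  exact e'.resolve_left (pow_ne_zero _ (pi_ne_zero π hint hW i))

include hint hq hW hD hh in
theorem setF0_h : ∃ h₀ : PP, h - h₀ ∈ Ideal.span ({fv q} : Set PP) ∧
    IsUnit ((setF0 h₀).coeff D) ∧ (setF0 h₀).natDegree ≤ D ∧
      (setF0 h₀).coeff 0 = (prodPoly π).coeff D := by
  obtain ⟨h₀, h1, h2⟩ := (weilPoly_prodPoly π hint hq hW).exists_h hD
  refine ⟨h₀, mem_of_X0_pow_mul_mem (z := h - h₀) (N := D) hq.ne' ?_, h2⟩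
  convert Ideal.sub_mem _ hh h1 using 1
  ring

theorem dvd_of_dvd_mul {b h₀ : Polynomial ℤ} {q : ℤ} (hq : q ≠ 0) {D : ℕ}
    (hu : IsUnit (h₀.coeff D)) (hd : h₀.natDegree ≤ D)
    (hdvd : Polynomial.C q ∣ b * h₀) : Polynomial.C q ∣ b := by
  rw [Polynomial.C_dvd_iff_dvd_coeff] at hdvd ⊢
  suffices ∀ m n, b.natDegree < n + m → q ∣ b.coeff n by
    exact fun n => this (b.natDegree + 1) n (by omega)
  intro m
  induction m using Nat.strong_induction_on with
  | _ m ih =>
    intro n hn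
    by_cases hlt : b.natDegree < n
    · rw [Polynomial.coeff_eq_zero_of_natDegree_lt hlt]; exact dvd_zero _
    have := hdvd (n + D)
    rw [Polynomial.coeff_mul, ← Finset.add_sum_erase _ _ (a := ((n, D) : ℕ × ℕ))
      (Finset.mem_antidiagonal.2 rfl), dvd_add_left (Finset.dvd_sum ?_)] at this
    · obtain ⟨v, hv⟩ := hu.exists_right_inv
      have := dvd_mul_of_dvd_left this v
      rwa [mul_assoc, hv, mul_one] at this
    rintro ⟨i, j⟩ hij
    rw [Finset.mem_erase, Finset.mem_antidiagonal] at hij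
    rcases Nat.lt_or_ge D j with hj | hj
    · rw [Polynomial.coeff_eq_zero_of_natDegree_lt (p := h₀) (by omega), mul_zero]
      exact dvd_zero _
    · have hne : i ≠ n := fun e => hij.1 (by
        rw [Prod.mk.injEq]; exact ⟨e, by omega⟩)
      exact Dvd.dvd.mul_right (ih (m - (i - n)) (by omega) i (by omega)) _

include hint hq hW hD hh in
theorem mem_span_pair_of_X0_mul_mem {z : PP}
    (hz : X 0 * z ∈ Ideal.span ({fv q, h} : Set PP)) : z ∈ Ideal.span ({fv q, h} : Set PP) := by
  obtain ⟨h₀, hh₀, hu, hd, -⟩ := setF0_h π hint hq hW hD h hh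
  obtain ⟨t, ht⟩ := Ideal.mem_span_singleton.1 hh₀
  have hsub : Ideal.span ({fv q, h} : Set PP) = Ideal.span ({fv q, h₀} : Set PP) := by
    rw [sub_eq_iff_eq_add'.1 ht]
    ext y
    rw [Ideal.mem_span_pair, Ideal.mem_span_pair]
    constructor
    · rintro ⟨a, b, rfl⟩; exact ⟨a + b * t, b, by ring⟩
    · rintro ⟨a, b, rfl⟩; exact ⟨a - b * t, b, by ring⟩
  rw [hsub] at hz ⊢
  obtain ⟨a, b, hab⟩ := Ideal.mem_span_pair.1 hz
  have e := congrArg setF0 hab
  rw [map_add, map_mul, map_mul, map_mul, setF0_X0, setF0_fv, zero_mul, mul_neg,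
    neg_add_eq_zero] at e
  obtain ⟨b₁, hb₁⟩ : Polynomial.C (q : ℤ) ∣ setF0 b :=
    dvd_of_dvd_mul (Int.natCast_ne_zero.2 hq.ne') hu hd ⟨setF0 a, by rw [← e]; ring⟩
  obtain ⟨a', ha'⟩ : (X 0 : PP) ∣ a - inV b₁ * h₀ := by
    refine X0_dvd_of_setF0 (mul_right_cancel₀
      (b := Polynomial.C (q : ℤ)) (by simpa using hq.ne') ?_)
    have hb : setF0 (inV b₁) = b₁ := by
      rw [inV, ← Polynomial.aeval_algHom_apply, setF0_X1, Polynomial.aeval_X_left_apply]
    rw [map_sub, map_mul, hb, sub_mul, e, hb₁, zero_mul]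
    ring
  obtain ⟨w, hw⟩ := exists_decomp b
  rw [hb₁, map_mul, show inV (Polynomial.C (q : ℤ)) = (C (q : ℤ) : PP) by simp [inV]] at hw
  rw [sub_eq_iff_eq_add.1 ha', hw, fv] at hab
  refine Ideal.mem_span_pair.2 ⟨a', inV b₁ * X 1 + w, mul_left_cancel₀ (MvPolynomial.X_ne_zero 0) ?_⟩
  rw [← hab, fv]
  ring

include hint hinj hq hW hD hh in
/-- The kernel is generated by `FV - q` and `h`. -/
theorem ker_phi_eq : RingHom.ker (phi q π) = Ideal.span {fv q, h} := by
  refine le_antisymm (fun z hz => ?_) (Ideal.span_le.2 ?_)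
  · obtain ⟨N, g, hg⟩ := ker_exists_pow_mul π hint hinj hW hz
    have hmem : X 0 ^ N * z ∈ Ideal.span ({fv q, h} : Set PP) := by
      have h1 : inF (prodPoly π * g) ∈ Ideal.span ({fv q, h} : Set PP) := by
        rw [map_mul]
        refine Ideal.mul_mem_right _ _ ?_
        have hmh : h ∈ Ideal.span ({fv q, h} : Set PP) :=
          Ideal.subset_span (Set.mem_insert_of_mem _ rfl)
        convert Ideal.sub_mem _ (Ideal.mul_mem_left _ (X 0 ^ D) hmh) (Ideal.span_mono (Set.singleton_subset_iff.2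
              (Set.mem_insert _ _)) hh) using 1
        ring
      convert Ideal.add_mem _ (Ideal.span_mono (Set.singleton_subset_iff.2
        (Set.mem_insert (fv q) _)) hg) h1 using 1
      ring
    clear hg
    induction N with
    | zero => simpa using hmem
    | succ N ih =>
      rw [pow_succ', mul_assoc] at hmem
      exact ih (mem_span_pair_of_X0_mul_mem π hint hq hW hD h hh hmem)
  · rintro z (hz | hz) <;> rw [SetLike.mem_coe, RingHom.mem_ker, hz]
    · exact phi_fv q π (pi_ne_zero π hint hW)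
    · exact phi_h π hint hW h hh

include hint hq hh in
theorem h_notMem : h ∉ Ideal.span ({fv q} : Set PP) := by
  intro hmem
  rw [mem_span_fv_iff hq.ne'] at hmem
  rw [mem_span_fv_iff hq.ne', map_sub, map_mul, hmem, mul_zero, zero_sub, neg_eq_zero, psi_inF,
    map_eq_zero_iff _ (RatFunc.algebraMap_injective ℚ), Polynomial.map_eq_zero_iff
      (Int.castRingHom ℚ).injective_int] at hh
  exact (prodPoly_monic π hint).ne_zero hh

include hint hq hh in
theorem isWeaklyRegular : RingTheory.Sequence.IsWeaklyRegular PP [fv q, h] := by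
  rw [RingTheory.Sequence.isWeaklyRegular_cons_iff]
  have hne : fv q ≠ 0 := fun e => by
    have := congrArg setF0 e
    rw [setF0_fv, map_zero, neg_eq_zero] at this
    simp [hq.ne'] at this
  refine ⟨IsSMulRegular.of_ne_zero hne, ?_⟩
  rw [RingTheory.Sequence.isWeaklyRegular_cons_iff]
  refine ⟨?_, RingTheory.Sequence.IsWeaklyRegular.nil _ _⟩
  rw [isSMulRegular_iff_right_eq_zero_of_smul]
  intro y hy
  obtain ⟨a, rfl⟩ := Submodule.Quotient.mk_surjective _ y
  rw [← Submodule.Quotient.mk_smul, Submodule.Quotient.mk_eq_zero,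
    Submodule.mem_smul_pointwise_iff_exists] at hy
  obtain ⟨b, -, hb⟩ := hy
  rw [Submodule.Quotient.mk_eq_zero, Submodule.mem_smul_pointwise_iff_exists]
  rcases mul_mem_span_fv hq.ne' (a := h) (b := a)
      (Ideal.mem_span_singleton.2 ⟨b, by simpa using hb.symm⟩) with h1 | h1
  · exact absurd h1 (h_notMem π hint hq h hh)
  · obtain ⟨w, hw⟩ := Ideal.mem_span_singleton.1 h1
    exact ⟨w, trivial, by simpa using hw.symm⟩

end Groth.Agent.WeilNum32
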