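import Groth.Agent.WeilNum32.Ring
import Groth.Agent.Gor18.Poly

/-!
# The minimal central order is Gorenstein
-/

set_option autoImplicit false

noncomputable section

namespace Groth.Agent.WeilNum32

open MvPolynomial

universe u

/-- `ℤ[F,V]` in an arbitrary universe. -/
abbrev PPu : Type u := MvPolynomial (Fin 2) (ULift.{u} ℤ)

/-- Comparison with `ℤ[F,V]`. -/
def eu : PPu.{u} ≃+* PP := MvPolynomial.mapEquiv (Fin 2) ULift.ringEquiv

theorem gorRing_PPu : LocCoh.IsGorensteinRing PPu.{u} := by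
  have : IsPrincipalIdealRing (ULift.{u} ℤ) :=
    IsPrincipalIdealRing.of_surjective (ULift.ringEquiv (R := ℤ)).symm.toRingHom
      (ULift.ringEquiv (R := ℤ)).symm.surjective
  have : IsDomain (ULift.{u} ℤ) := ULift.ringEquiv.injective.isDomain (ULift.ringEquiv (R := ℤ)).toRingHom
  have := Gor18.gorRing_of_pid (ULift.{u} ℤ)
  exact Gor18.gorRing_mvPolynomial (ULift.{u} ℤ) 2

theorem gorRing_quotient_two {A S : Type u} [CommRing A] [CommRing S] [LocCoh.IsGorensteinRing A]
    {a b : A} (ha : IsSMulRegular A a) (hb : ∀ x, a ∣ b * x → a ∣ x) (Φ : A →+* S)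
    (hΦ : Function.Surjective Φ) (hker : RingHom.ker Φ = Ideal.span {a} ⊔ Ideal.span {b}) :
    LocCoh.IsGorensteinRing S := by
  have h1 := Gor18.gorRing_quotient ha
  have hb' : IsSMulRegular (A ⧸ Ideal.span {a}) (Ideal.Quotient.mk (Ideal.span {a}) b) := by
    intro y z hyz
    obtain ⟨y, rfl⟩ := Ideal.Quotient.mk_surjective y
    obtain ⟨z, rfl⟩ := Ideal.Quotient.mk_surjective z
    rw [Ideal.Quotient.mk_eq_mk_iff_sub_mem, Ideal.mem_span_singleton]
    refine hb _ ?_
    simp only [smul_eq_mul, ← map_mul] at hyz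
    rw [Ideal.Quotient.mk_eq_mk_iff_sub_mem, Ideal.mem_span_singleton] at hyz
    rwa [mul_sub]
  have h2 := Gor18.gorRing_quotient hb'
  have hm : (Ideal.span {b}).map (Ideal.Quotient.mk (Ideal.span {a})) =
      Ideal.span {Ideal.Quotient.mk (Ideal.span {a}) b} := by
    rw [Ideal.map_span, Set.image_singleton]
  exact Gor18.gorRing_of_ringEquiv
    ((((Ideal.quotEquivOfEq hm.symm).trans
      (DoubleQuot.quotQuotEquivQuotSup (Ideal.span {a}) (Ideal.span {b}))).trans
        (Ideal.quotEquivOfEq hker.symm)).trans (RingHom.quotientKerEquivOfSurjective hΦ))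

/-- A quotient of `ℤ[F,V]` by a regular sequence of length two is Gorenstein. -/
theorem gorRing_of_surjective {S : Type u} [CommRing S] (φ : PP →+* S)
    (hφ : Function.Surjective φ) {f g : PP}
    (hf : f ≠ 0) (hg : ∀ x, g * x ∈ Ideal.span ({f} : Set PP) → x ∈ Ideal.span ({f} : Set PP))
    (hker : RingHom.ker φ = Ideal.span {f, g}) : LocCoh.IsGorensteinRing S := by
  have := gorRing_PPu.{u}
  set e := eu.{u}
  have : IsDomain PPu.{u} := e.injective.isDomain e.toRingHom
  set f' := e.symm f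
  set g' := e.symm g
  have hf' : IsSMulRegular PPu.{u} f' :=
    IsSMulRegular.of_ne_zero (by simpa [f'] using hf)
  have hg' : ∀ x, f' ∣ g' * x → f' ∣ x := by
    rintro x ⟨b, hb⟩
    obtain ⟨w, hw⟩ := Ideal.mem_span_singleton.1 (hg (e x) (Ideal.mem_span_singleton.2
      ⟨e b, by
        have := congrArg e hb
        simpa [f', g', map_mul] using this⟩))
    exact ⟨e.symm w, e.injective (by simp [f', hw])⟩
  let Φ : PPu.{u} →+* S := φ.comp e.toRingHom
  have hΦ : Function.Surjective Φ := hφ.comp e.surjective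
  have hkerΦ : RingHom.ker Φ = Ideal.span {f'} ⊔ Ideal.span {g'} := by
    rw [← Ideal.span_insert, ← RingHom.comap_ker, hker, show ({f', g'} : Set PPu.{u}) =
      e.symm '' {f, g} by rw [Set.image_insert_eq, Set.image_singleton]]
    show Ideal.comap e (Ideal.span {f, g}) = _
    rw [← Ideal.map_symm, Ideal.map_span]
  exact gorRing_quotient_two hf' hg' Φ hΦ hkerΦ

variable {ι : Type} [Fintype ι] {K : ι → Type u} [∀ i, Field (K i)] [∀ i, CharZero (K i)]
  (π : ∀ i, K i) (hint : ∀ i, IsIntegral ℤ (π i))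
  (hinj : ∀ i j, minpoly ℤ (π i) = minpoly ℤ (π j) → i = j)
  {q : ℕ} (hq : 0 < q) (hW : ∀ i, WeilPoly q (minpoly ℤ (π i)))
  {D : ℕ} (hD : (prodPoly π).natDegree = 2 * D)

include hint hinj hq hW hD in
theorem gorRing_range (φ : PP →ₐ[ℤ] ((i : ι) → K i)) (hφ : φ = phi q π) :
    LocCoh.IsGorensteinRing φ.range := by
  subst hφ
  obtain ⟨h, hh, -⟩ := (weilPoly_prodPoly π hint hq hW).exists_h hD
  refine gorRing_of_surjective (phi q π).rangeRestrict.toRingHom
    (AlgHom.rangeRestrict_surjective _) (f := fv q) (g := h) ?_ ?_ ?_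
  · intro e
    have := congrArg setF0 e
    rw [setF0_fv, map_zero, neg_eq_zero] at this
    simp [hq.ne'] at this
  · intro x hx
    exact (mul_mem_span_fv hq.ne' hx).resolve_left (h_notMem π hint hq h hh)
  · rw [← ker_phi_eq π hint hinj hq hW hD h hh]
    ext z
    rw [RingHom.mem_ker, RingHom.mem_ker]
    exact Subtype.ext_iff

end Groth.Agent.WeilNum32
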