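import Groth.Agent.Gor18.Poly
import Mathlib.RingTheory.Artinian.Module
import Mathlib.RingTheory.Artinian.Ring

/-!
# Local criteria for the Gorenstein property
-/

set_option autoImplicit false

noncomputable section

namespace Groth.Agent.WeilNum32

open IsLocalRing

universe u

/-- A quotient which is locally one of a family of Gorenstein quotients. -/
theorem gorRing_quotient_of_local_eq {A : Type u} [CommRing A] [IsNoetherianRing A] (I : Ideal A)
    (h : ∀ (p : Ideal A) [p.IsPrime], I ≤ p → ∃ J : Ideal A, J ≤ p ∧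
      LocCoh.IsGorensteinRing (A ⧸ J) ∧
      I.map (algebraMap A (Localization.AtPrime p)) = J.map (algebraMap A (Localization.AtPrime p))) :
    LocCoh.IsGorensteinRing (A ⧸ I) where
  isGorensteinLocalRing_localization q _ := by
    let p := q.comap (Ideal.Quotient.mk I)
    have hIp : I ≤ p := fun x hx => by
      show Ideal.Quotient.mk I x ∈ q
      rw [Ideal.Quotient.eq_zero_iff_mem.2 hx]
      exact zero_mem _
    obtain ⟨J, hJp, hJ, hIJ⟩ := h p hIp
    let B := Localization.AtPrime p
    let r := p.map (Ideal.Quotient.mk J)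
    have hr : r.IsPrime := Ideal.map_isPrime_of_surjective Ideal.Quotient.mk_surjective
      (by rwa [Ideal.mk_ker])
    have hrc : r.comap (Ideal.Quotient.mk J) = p := by
      rw [Ideal.comap_map_of_surjective' _ Ideal.Quotient.mk_surjective, Ideal.mk_ker, sup_eq_left]
      exact hJp
    have hqI := Gor18.isLocalization_atPrime_quotient p B I q rfl
    have hrJ := Gor18.isLocalization_atPrime_quotient p B J r hrc
    have hm : I.map (algebraMap A B) ≤ maximalIdeal B := by
      rw [← Localization.AtPrime.map_eq_maximalIdeal]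
      exact Ideal.map_mono hIp
    have : Nontrivial (B ⧸ I.map (algebraMap A B)) := Ideal.Quotient.nontrivial_iff.2
      (ne_top_of_le_ne_top (maximalIdeal.isMaximal B).ne_top hm)
    have := IsLocalRing.of_surjective' (Ideal.Quotient.mk (I.map (algebraMap A B)))
      Ideal.Quotient.mk_surjective
    refine (Gor18.gor_congr ?_).1
      (LocCoh.IsGorensteinRing.isGorensteinLocalRing_localization (A := A ⧸ J) r)
    exact (IsLocalization.algEquiv r.primeCompl (Localization.AtPrime r)
      (B ⧸ J.map (algebraMap A B))).toRingEquiv.trans ((Ideal.quotEquivOfEq hIJ.symm).trans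
        (IsLocalization.algEquiv q.primeCompl (B ⧸ I.map (algebraMap A B))
          (Localization.AtPrime q)).toRingEquiv)

/-- The ideal `(Hx, Hy)` in the neighbourhood of a point where `σy ∈ (x)`. -/
theorem gorRing_quotient_prod {A : Type u} [CommRing A] [IsDomain A] [LocCoh.IsGorensteinRing A]
    {x y v σ H : A} (rel : x * v + σ * y = 0) (hH : H ≠ 0) (hx : x ≠ 0)
    (hJ : LocCoh.IsGorensteinRing (A ⧸ Ideal.span ({x, y} : Set A)))
    (hgood : ∀ p : Ideal A, p.IsPrime → H ∈ p → x ∈ p → y ∈ p → σ ∉ p) :
    LocCoh.IsGorensteinRing (A ⧸ Ideal.span ({H * x, H * y} : Set A)) := by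
  refine gorRing_quotient_of_local_eq _ fun p hp hIp => ?_
  set B := Localization.AtPrime p
  set f := algebraMap A B
  have hu : ∀ z, z ∉ p → IsUnit (f z) := fun z hz =>
    IsLocalization.map_units B (⟨z, hz⟩ : p.primeCompl)
  have hmap : (Ideal.span ({H * x, H * y} : Set A)).map f = Ideal.span {f H * f x, f H * f y} := by
    rw [Ideal.map_span, Set.image_insert_eq, Set.image_singleton, map_mul, map_mul]
  by_cases hxy : x ∈ p ∧ y ∈ p
  · by_cases hHp : H ∈ p
    · refine ⟨Ideal.span {H * x}, Ideal.span_le.2 (by simpa using p.mul_mem_left H hxy.1),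
        Gor18.gorRing_quotient (IsSMulRegular.of_ne_zero (mul_ne_zero hH hx)), ?_⟩
      rw [hmap, Ideal.map_span, Set.image_singleton, map_mul, Ideal.span_insert, sup_eq_left,
        Ideal.span_singleton_le_span_singleton]
      obtain ⟨w, hw⟩ := (hu σ (hgood p hp hHp hxy.1 hxy.2)).exists_left_inv
      have e := congrArg f rel
      rw [map_add, map_mul, map_mul, map_zero] at e
      exact ⟨-(w * f v), by linear_combination (-f H * f y) * hw + (f H * w) * e⟩
    · refine ⟨Ideal.span {x, y}, Ideal.span_le.2 (Set.insert_subset hxy.1 (by simpa using hxy.2)),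
        hJ, ?_⟩
      rw [hmap, Ideal.map_span, Set.image_insert_eq, Set.image_singleton, Ideal.span_insert,
        Ideal.span_insert, Ideal.span_singleton_mul_left_unit (hu H hHp),
        Ideal.span_singleton_mul_left_unit (hu H hHp)]
  · have hHp : H ∈ p := by
      rw [not_and_or] at hxy
      rcases hxy with hc | hc
      · exact (hp.mem_or_mem (hIp (Ideal.subset_span (Set.mem_insert _ _)))).resolve_right hc
      · exact (hp.mem_or_mem (hIp (Ideal.subset_span (Set.mem_insert_of_mem _ rfl)))).resolve_right hc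
    refine ⟨Ideal.span {H}, Ideal.span_le.2 (by simpa using hHp),
      Gor18.gorRing_quotient (IsSMulRegular.of_ne_zero hH), ?_⟩
    rw [hmap, Ideal.map_span, Set.image_singleton, Ideal.span_insert]
    rw [not_and_or] at hxy
    rcases hxy with hc | hc
    · rw [Ideal.span_singleton_mul_right_unit (hu x hc), sup_eq_left,
        Ideal.span_singleton_le_span_singleton]
      exact dvd_mul_right _ _
    · rw [Ideal.span_singleton_mul_right_unit (hu y hc), sup_eq_right,
        Ideal.span_singleton_le_span_singleton]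
      exact dvd_mul_right _ _

/-- If a point of a Gorenstein ring has Artinian fibre modulo a regular element, the socle there
is simple. -/
theorem socle_simple_of_gor {R : Type u} [CommRing R] [LocCoh.IsGorensteinRing R] {f : R}
    (hf : IsSMulRegular R f) [IsArtinianRing (R ⧸ Ideal.span {f})]
    (q : Ideal (R ⧸ Ideal.span {f})) [q.IsPrime]
    {x y : R ⧸ Ideal.span {f}}
    (hx : ∀ z ∈ q, ∃ t ∉ q, t * (z * x) = 0) (hy : ∀ z ∈ q, ∃ t ∉ q, t * (z * y) = 0)
    (hx0 : ∀ t ∉ q, t * x ≠ 0) :
    ∃ c d, d ∉ q ∧ ∃ t ∉ q, t * (d * y - c * x) = 0 := by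
  let C := R ⧸ Ideal.span {f}
  let L := Localization.AtPrime q
  have hgor : LocCoh.IsGorensteinLocalRing L :=
    (Gor18.gor_atPrime_quotient_iff q (Gor18.gorRing_quotient.smulRegular_localization hf _)).2
      (LocCoh.IsGorensteinRing.isGorensteinLocalRing_localization _)
  have : IsArtinianRing L :=
    (IsArtinianRing.localization_surjective q.primeCompl L).isArtinianRing
  have hsimple := Gor18.artinian_gor_iff_simple_socle.1 hgor
  have hsoc : ∀ w : C, (∀ z ∈ q, ∃ t ∉ q, t * (z * w) = 0) →
      algebraMap C L w ∈ LocCoh.torsionBy (maximalIdeal L) L := by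
    intro w hw
    refine (Submodule.mem_torsionBySet_iff _ _).2 fun a => ?_
    obtain ⟨⟨z, s⟩, hzs⟩ := IsLocalization.surj q.primeCompl (a : L)
    have hzq : z ∈ q := by
      rw [← IsLocalization.AtPrime.to_map_mem_maximal_iff L q, ← hzs]
      exact Ideal.mul_mem_right _ _ a.2
    obtain ⟨t, ht, htw⟩ := hw z hzq
    show (a : L) * algebraMap C L w = 0
    have h0 : algebraMap C L (z * w) = 0 :=
      (IsLocalization.map_eq_zero_iff q.primeCompl L _).2 ⟨⟨t, ht⟩, htw⟩
    refine (IsLocalization.map_units L s).mul_right_eq_zero.1 ?_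
    rw [← h0, map_mul, ← hzs]
    ring
  set X : LocCoh.torsionBy (maximalIdeal L) L := ⟨_, hsoc x hx⟩
  have hX : X ≠ 0 := fun e => by
    have := congrArg Subtype.val e
    obtain ⟨⟨t, ht⟩, htx⟩ := (IsLocalization.map_eq_zero_iff q.primeCompl L x).1 this
    exact hx0 t ht htx
  obtain ⟨c, hc⟩ := Submodule.mem_span_singleton.1
    ((IsSimpleModule.span_singleton_eq_top L hX).ge (Submodule.mem_top (x := ⟨_, hsoc y hy⟩)))
  obtain ⟨⟨c', s⟩, hcs⟩ := IsLocalization.surj q.primeCompl c
  have hc' : c * algebraMap C L x = algebraMap C L y := congrArg Subtype.val hc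
  have h0 : algebraMap C L (s * y - c' * x) = 0 := by
    rw [map_sub, map_mul, map_mul, ← hcs, ← hc']
    ring
  obtain ⟨⟨t, ht⟩, htz⟩ := (IsLocalization.map_eq_zero_iff q.primeCompl L _).1 h0
  exact ⟨c', s, s.2, t, ht, htz⟩

end Groth.Agent.WeilNum32
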