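import Groth.Agent.WeilNum32.Basic
import Mathlib.NumberTheory.Padics.Complex
import Mathlib.Algebra.Polynomial.FieldDivision

/-!
# Ordinary Weil numbers
-/

set_option autoImplicit false

noncomputable section

namespace Groth.Agent.WeilNum32

open Polynomial

variable {p : ℕ} [hp : Fact p.Prime]

/-- The integers of `ℚ̄_p`. -/
def intRing (p : ℕ) [Fact p.Prime] : ValuationSubring (PadicAlgCl p) :=
  (NormedField.valuation (K := PadicAlgCl p)).valuationSubring

theorem mem_intRing {z : PadicAlgCl p} : z ∈ intRing p ↔ ‖z‖ ≤ 1 := by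
  rw [intRing, Valuation.mem_valuationSubring_iff, NormedField.valuation_apply]
  exact NNReal.coe_le_coe.symm

theorem isUnit_intRing_iff (z : intRing p) : IsUnit z ↔ ‖(z : PadicAlgCl p)‖ = 1 := by
  constructor
  · rintro ⟨v, rfl⟩
    have h1 := mem_intRing.1 (v : intRing p).2
    have h2 := mem_intRing.1 (↑v⁻¹ : intRing p).2
    have e := congrArg (fun x : intRing p => ‖(x : PadicAlgCl p)‖) v.mul_inv
    simp only [MulMemClass.coe_mul, norm_mul, OneMemClass.coe_one, norm_one] at e
    refine le_antisymm h1 ?_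
    rw [← e]
    exact (mul_le_mul_of_nonneg_left h2 (norm_nonneg _)).trans (mul_one _).le
  · intro h
    have hne : (z : PadicAlgCl p) ≠ 0 := fun e => by simp [e] at h
    exact IsUnit.of_mul_eq_one (⟨(z : PadicAlgCl p)⁻¹, mem_intRing.2 (by rw [norm_inv, h, inv_one])⟩ :
      intRing p) (Subtype.ext (mul_inv_cancel₀ hne))

theorem norm_intCast_le_one (a : ℤ) : ‖(a : PadicAlgCl p)‖ ≤ 1 := by
  rw [← map_intCast (algebraMap ℚ_[p] (PadicAlgCl p)), norm_algebraMap']
  exact Padic.norm_int_le_one a

theorem residue_intCast_eq_zero_iff (a : ℤ) :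
    IsLocalRing.residue (intRing p) (a : intRing p) = 0 ↔ (p : ℤ) ∣ a := by
  rw [IsLocalRing.residue_eq_zero_iff, IsLocalRing.mem_maximalIdeal, mem_nonunits_iff,
    isUnit_intRing_iff, SubringClass.coe_intCast, ← map_intCast (algebraMap ℚ_[p] (PadicAlgCl p)),
    norm_algebraMap', ← Padic.norm_intCast_lt_one_iff]
  exact ⟨fun h => lt_of_le_of_ne (Padic.norm_int_le_one a) h, fun h => h.ne⟩

theorem norm_root_le_one {P : ℤ[X]} (hP : P.Monic) {z : PadicAlgCl p}
    (hz : z ∈ P.aroots (PadicAlgCl p)) : ‖z‖ ≤ 1 := by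
  by_contra hlt
  push Not at hlt
  have he : aeval z P = 0 := (Polynomial.mem_aroots.1 hz).2
  rw [aeval_eq_sum_range, Finset.sum_range_succ, hP.coeff_natDegree, one_smul,
    add_eq_zero_iff_eq_neg] at he
  have hn : 0 < P.natDegree := by
    by_contra h0
    push Not at h0
    rw [hP.natDegree_eq_zero.1 (by omega), aroots_one] at hz
    simp at hz
  obtain ⟨i, hi, hle⟩ := IsUltrametricDist.exists_norm_finsetSum_le_of_nonempty
    (t := Finset.range P.natDegree) (Finset.nonempty_range_iff.2 hn.ne')
    (fun i => P.coeff i • z ^ i)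
  rw [he, norm_neg, norm_pow, zsmul_eq_mul, norm_mul, norm_pow] at hle
  have h1 : ‖z‖ ^ i < ‖z‖ ^ P.natDegree := pow_lt_pow_right₀ hlt (Finset.mem_range.1 hi)
  have h2 : ‖(P.coeff i : PadicAlgCl p)‖ * ‖z‖ ^ i ≤ 1 * ‖z‖ ^ i :=
    mul_le_mul_of_nonneg_right (norm_intCast_le_one _) (by positivity)
  linarith

/-- Exactly half of the roots are units iff `p` does not divide the middle coefficient. -/
theorem ordinary_iff {P : ℤ[X]} (hP : P.Monic) {d : ℕ} (hd : P.natDegree = 2 * d)
    (hdiv : ∀ j < d, (p : ℤ) ∣ P.coeff j) :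
    2 * Multiset.card ((P.aroots (PadicAlgCl p)).filter fun z => ‖z‖ = 1) = P.natDegree ↔
      ¬ (p : ℤ) ∣ P.coeff d := by
  classical
  set s := P.aroots (PadicAlgCl p) with hs
  have hcard : Multiset.card s = P.natDegree := by
    rw [hs, aroots_def, ← (IsAlgClosed.splits _).natDegree_eq_card_roots, hP.natDegree_map]
  let t : Multiset (intRing p) :=
    s.pmap (fun z hz => (⟨z, hz⟩ : intRing p)) fun z hz => mem_intRing.2 (norm_root_le_one hP hz)
  have ht : t.map (fun z : intRing p => (z : PadicAlgCl p)) = s := by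
    rw [Multiset.map_pmap, Multiset.pmap_eq_map, Multiset.map_id']
  have hfac : P.map (Int.castRingHom (intRing p)) = (t.map fun z => X - C z).prod := by
    apply Polynomial.map_injective (intRing p).subtype Subtype.val_injective
    rw [Polynomial.map_map, Polynomial.map_multiset_prod, Multiset.map_map,
      RingHom.ext_int ((intRing p).subtype.comp (Int.castRingHom _)) (algebraMap ℤ (PadicAlgCl p)),
      (IsAlgClosed.splits (P.map (algebraMap ℤ (PadicAlgCl p)))).eq_prod_roots_of_monic (hP.map _),
      ← aroots_def, ← hs, ← ht, Multiset.map_map]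
    refine congrArg Multiset.prod (Multiset.map_congr rfl fun z _ => ?_)
    simp
  set P' := P.map (Int.castRingHom (IsLocalRing.ResidueField (intRing p))) with hP'
  have hfac' : P' = ((t.map (IsLocalRing.residue (intRing p))).map fun z => X - C z).prod := by
    rw [hP', RingHom.ext_int (Int.castRingHom (IsLocalRing.ResidueField (intRing p)))
      ((IsLocalRing.residue (intRing p)).comp (Int.castRingHom _)), ← Polynomial.map_map, hfac,
      Polynomial.map_multiset_prod, Multiset.map_map, Multiset.map_map]
    refine congrArg Multiset.prod (Multiset.map_congr rfl fun z _ => ?_)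
    simp
  have hne : P' ≠ 0 := (hP.map _).ne_zero
  have hroots : P'.roots = t.map (IsLocalRing.residue (intRing p)) := by
    rw [hfac', roots_multiset_prod_X_sub_C]
  have hzero : Multiset.card (s.filter fun z => ¬ ‖z‖ = 1) = P'.natTrailingDegree := by
    rw [← rootMultiplicity_eq_natTrailingDegree', ← count_roots, hroots, Multiset.count_map, ← ht,
      Multiset.filter_map, Multiset.card_map]
    refine congrArg Multiset.card (Multiset.filter_congr fun z _ => ?_)
    rw [Function.comp_apply, eq_comm (a := (0 : IsLocalRing.ResidueField (intRing p))),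
      IsLocalRing.residue_eq_zero_iff, IsLocalRing.mem_maximalIdeal, mem_nonunits_iff,
      isUnit_intRing_iff]
  have htot : Multiset.card (s.filter fun z => ‖z‖ = 1) + P'.natTrailingDegree = 2 * d := by
    rw [← hzero, ← Multiset.card_add, Multiset.filter_add_not, hcard, hd]
  have hcoef : ∀ j, P'.coeff j = 0 ↔ (p : ℤ) ∣ P.coeff j := fun j => by
    rw [← residue_intCast_eq_zero_iff (p := p), map_intCast, hP', coeff_map, eq_intCast]
  have hge : d ≤ P'.natTrailingDegree :=
    le_natTrailingDegree hne fun m hm => (hcoef m).2 (hdiv m hm)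
  rw [hd, ← hcoef]
  constructor
  · intro h e
    have htd : P'.natTrailingDegree = d := by omega
    have := trailingCoeff_nonzero_iff_nonzero.2 hne
    rw [trailingCoeff, htd] at this
    exact this e
  · intro h
    have := natTrailingDegree_le_of_ne_zero h
    omega

theorem nonreal_divides {e : ℕ} (he : 0 < e) {P : ℤ[X]} (h : WeilPoly (p ^ e) P) {d : ℕ}
    (hd : P.natDegree = 2 * d) : ∀ j < d, (p : ℤ) ∣ P.coeff j := by
  intro j hj
  obtain ⟨c, -, -, hsym⟩ := h.exists_sign hd
  have := hsym (d - j) (by omega)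
  rw [show d - (d - j) = j by omega] at this
  rw [this, Nat.cast_pow, ← pow_mul]
  exact ((dvd_pow_self _ (Nat.mul_ne_zero he.ne' (by omega))).mul_left c).mul_right _

end Groth.Agent.WeilNum32
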