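import Groth.Agent.WeilNum32.Gor
import Groth.Agent.WeilNum32.GorLocal
import Groth.Agent.WeilNum32.Ordinary
import Mathlib.Algebra.Module.ZMod
import Mathlib.GroupTheory.FiniteAbelian.Basic

/-!
# Adding a rational Weil number to a family
-/

set_option autoImplicit false

noncomputable section

namespace Groth.Agent.WeilNum32

open MvPolynomial

universe u

/-- Evaluation at `(s, s)`. -/
def evS (s : ℤ) : PP →ₐ[ℤ] ℤ := MvPolynomial.aeval ![s, s]

theorem sub_evS_mem (s : ℤ) (z : PP) :
    z - C (evS s z) ∈ Ideal.span ({X 0 - C s, X 1 - C s} : Set PP) := by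
  induction z using MvPolynomial.induction_on with
  | C c => simp [evS]
  | add a b ha hb =>
    rw [map_add, map_add]
    convert Ideal.add_mem _ ha hb using 1
    ring
  | mul_X a i ha =>
    have hi : X i - C s ∈ Ideal.span ({X 0 - C s, X 1 - C s} : Set PP) := by
      fin_cases i
      · exact Ideal.subset_span (Set.mem_insert _ _)
      · exact Ideal.subset_span (Set.mem_insert_of_mem _ rfl)
    rw [map_mul, map_mul, show evS s (X i) = s by rw [evS, aeval_X]; fin_cases i <;> rfl]
    convert Ideal.add_mem _ (Ideal.mul_mem_right (X i : PP) _ ha)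
      (Ideal.mul_mem_left _ (C (evS s a) : PP) hi) using 1
    ring

theorem evS_eq_zero_iff (s : ℤ) (z : PP) :
    evS s z = 0 ↔ z ∈ Ideal.span ({X 0 - C s, X 1 - C s} : Set PP) := by
  refine ⟨fun h => ?_, fun h => ?_⟩
  · have := sub_evS_mem s z
    rwa [h, map_zero, sub_zero] at this
  · obtain ⟨a, b, rfl⟩ := Ideal.mem_span_pair.1 h
    simp [evS]

/-! ### The axes modulo `p` -/

/-- Restriction to an axis, modulo `p`. -/
def axis (p : ℕ) (i : Fin 2) : PP →ₐ[ℤ] Polynomial (ZMod p) :=
  MvPolynomial.aeval (Function.update (fun _ => (0 : Polynomial (ZMod p))) i Polynomial.X)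

theorem axis_self (p : ℕ) (i : Fin 2) : axis p i (X i) = Polynomial.X := by simp [axis]

theorem axis_other (p : ℕ) {i j : Fin 2} (h : j ≠ i) : axis p i (X j) = 0 := by
  simp [axis, Function.update_of_ne h]

theorem coeff_axis_zero (p : ℕ) (i : Fin 2) (z : PP) :
    (axis p i z).coeff 0 = ((evS 0 z : ℤ) : ZMod p) := by
  obtain ⟨a, b, e⟩ := Ideal.mem_span_pair.1 (sub_evS_mem 0 z)
  have e' := congrArg (fun w : Polynomial (ZMod p) => w.coeff 0) (congrArg (axis p i) e)
  simp only [map_add, map_mul, map_sub, map_zero, sub_zero, axis, MvPolynomial.aeval_C,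
    Polynomial.coeff_sub, Polynomial.coeff_add, Polynomial.mul_coeff_zero] at e'
  have h0 : ∀ l, (Function.update (fun _ : Fin 2 => (0 : Polynomial (ZMod p))) i Polynomial.X l).coeff 0
      = 0 := fun l => by
    rcases eq_or_ne l i with rfl | hl
    · rw [Function.update_self, Polynomial.coeff_X_zero]
    · rw [Function.update_of_ne hl, Polynomial.coeff_zero]
  simp only [aeval_X, h0, mul_zero, add_zero, algebraMap_int_eq, eq_intCast,
    Polynomial.intCast_coeff_zero] at e'
  exact (sub_eq_zero.1 e'.symm)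

theorem axis_decomp (p : ℕ) {i j : Fin 2} (hij : ∀ l, l = i ∨ l = j) (z : PP) :
    ∃ (g : Polynomial ℤ) (w : PP), z = Polynomial.aeval (X i : PP) g + X j * w := by
  induction z using MvPolynomial.induction_on with
  | C c => exact ⟨Polynomial.C c, 0, by simp⟩
  | add a b ha hb =>
    obtain ⟨g, w, rfl⟩ := ha
    obtain ⟨g', w', rfl⟩ := hb
    exact ⟨g + g', w + w', by rw [map_add]; ring⟩
  | mul_X a l ha =>
    obtain ⟨g, w, rfl⟩ := ha
    rcases hij l with rfl | rfl
    · exact ⟨g * Polynomial.X, w * X l, by rw [map_mul, Polynomial.aeval_X]; ring⟩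
    · exact ⟨0, Polynomial.aeval (X i : PP) g + X l * w, by rw [map_zero]; ring⟩

/-- The fibre of an axis. -/
theorem exists_eq_of_axis_eq (p : ℕ) {i j : Fin 2} (hij : ∀ l, l = i ∨ l = j) (hne : j ≠ i)
    {z : PP} (g : Polynomial ℤ) (hz : axis p i z = g.map (Int.castRingHom (ZMod p))) :
    ∃ v w : PP, z = Polynomial.aeval (X i : PP) g + C (p : ℤ) * v + X j * w := by
  obtain ⟨g', w, rfl⟩ := axis_decomp p hij z
  have hg : ∀ f : Polynomial ℤ,
      axis p i (Polynomial.aeval (X i : PP) f) = f.map (Int.castRingHom (ZMod p)) := fun f => by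
    rw [← Polynomial.aeval_algHom_apply, axis_self]
    induction f using Polynomial.induction_on' with
    | add a b ha hb => rw [map_add, Polynomial.map_add, ha, hb]
    | monomial n c => simp [← Polynomial.C_mul_X_pow_eq_monomial]
  rw [map_add, map_mul, axis_other p hne, zero_mul, add_zero, hg] at hz
  obtain ⟨m, hm⟩ : Polynomial.C (p : ℤ) ∣ g' - g := by
    rw [Polynomial.C_dvd_iff_dvd_coeff]
    intro l
    have := congrArg (fun f : Polynomial (ZMod p) => f.coeff l) hz
    simp only [Polynomial.coeff_map, eq_intCast] at this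
    rw [Polynomial.coeff_sub]
    exact (ZMod.intCast_eq_intCast_iff_dvd_sub _ _ p).1 this.symm
  refine ⟨Polynomial.aeval (X i : PP) m, w, ?_⟩
  rw [sub_eq_iff_eq_add'.1 hm, map_add, map_mul, Polynomial.aeval_C]
  simp

/-! ### The family with the rational number -/

variable {ι : Type} [Fintype ι] {K : ι → Type u} [∀ i, Field (K i)] [∀ i, CharZero (K i)]
  (π : ∀ i, K i) (hint : ∀ i, IsIntegral ℤ (π i))
  (hinj : ∀ i j, minpoly ℤ (π i) = minpoly ℤ (π j) → i = j)
  {q : ℕ} (hq : 0 < q) (hW : ∀ i, WeilPoly q (minpoly ℤ (π i)))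
  {s : ℤ} (hs : s ^ 2 = (q : ℤ)) (hdeg : ∀ i, (minpoly ℤ (π i)).natDegree ≠ 1)
  {D : ℕ} (hD : (prodPoly π).natDegree = 2 * D) (h : PP)
  (hh : X 0 ^ D * h - inF (prodPoly π) ∈ Ideal.span ({fv q} : Set PP))

/-- The family enlarged by the rational Weil number. -/
def phiS (q : ℕ) (s : ℤ) (π : ∀ i, K i) : PP →ₐ[ℤ] (((i : ι) → K i) × ℚ) :=
  (phi q π).prod ((Algebra.ofId ℤ ℚ).comp (evS s))

theorem phiS_eq_zero_iff (z : PP) : phiS q s π z = 0 ↔ phi q π z = 0 ∧ evS s z = 0 := by
  simp [phiS, Prod.ext_iff]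

include hs in
theorem evS_fv : evS s (fv q) = 0 := by
  simp [evS, fv, ← hs, sq]

include hint hdeg in
theorem eval_ne_zero (i : ι) (t : ℤ) : (minpoly ℤ (π i)).eval t ≠ 0 := by
  intro e
  have hd : Polynomial.X - Polynomial.C t ∣ minpoly ℤ (π i) :=
    Polynomial.dvd_iff_isRoot.2 e
  have := (Polynomial.irreducible_X_sub_C t).associated_of_dvd (minpoly.irreducible (hint i)) hd
  exact hdeg i (by
    rw [← Polynomial.eq_of_monic_of_associated (Polynomial.monic_X_sub_C t)
      (minpoly.monic (hint i)) this, Polynomial.natDegree_X_sub_C])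

include hint hdeg hs hh in
theorem evS_h_ne_zero : evS s h ≠ 0 := by
  obtain ⟨w, hw⟩ := Ideal.mem_span_singleton.1 hh
  intro e
  have e' := congrArg (evS s) hw
  rw [map_sub, map_mul, e, mul_zero, zero_sub, map_mul, evS_fv hs, zero_mul, neg_eq_zero, inF,
    ← Polynomial.aeval_algHom_apply, show evS s (X 0) = s by simp [evS],
    Polynomial.coe_aeval_eq_eval, prodPoly, Polynomial.eval_prod, Finset.prod_eq_zero_iff] at e'
  obtain ⟨i, -, hi⟩ := e'
  exact eval_ne_zero π hint hdeg i s hi

include hint hdeg hs hW in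
theorem nonreal_of_rational (i : ι) : ∀ z ∈ (minpoly ℤ (π i)).aroots ℂ, z.im ≠ 0 := by
  intro z hz him
  have h1 := (hW i).mul_conj hz
  rw [Complex.conj_eq_iff_im.2 him, show ((q : ℂ)) = (s : ℂ) * (s : ℂ) by
    rw [← sq, ← Int.cast_pow, hs, Int.cast_natCast]] at h1
  have hroot : ∀ t : ℤ, z = (t : ℂ) → False := fun t ht => by
    refine eval_ne_zero π hint hdeg i t ?_
    have e := (Polynomial.mem_aroots.1 hz).2
    rw [ht, ← eq_intCast (algebraMap ℤ ℂ), Polynomial.aeval_algebraMap_apply,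
      Polynomial.coe_aeval_eq_eval, algebraMap_int_eq, eq_intCast, Int.cast_eq_zero] at e
    exact e
  rcases mul_self_eq_mul_self_iff.1 h1 with e | e
  · exact hroot s e
  · exact hroot (-s) (by rw [e]; push_cast; rfl)

include hint hinj hq hW hs hdeg hD hh in
theorem ker_phiS : RingHom.ker (phiS q s π) =
    Ideal.span {fv q, h * (X 0 - C s), h * (X 1 - C s)} := by
  refine le_antisymm (fun z hz => ?_) (Ideal.span_le.2 ?_)
  · rw [RingHom.mem_ker, phiS_eq_zero_iff] at hz
    have hk := ker_phi_eq π hint hinj hq hW hD h hh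
    have hz1 : z ∈ RingHom.ker (phi q π) := hz.1
    rw [hk] at hz1
    obtain ⟨a, b, rfl⟩ := Ideal.mem_span_pair.1 hz1
    have e := hz.2
    rw [map_add, map_mul, map_mul, evS_fv hs, mul_zero, zero_add, mul_eq_zero] at e
    obtain ⟨c, d, hb⟩ := Ideal.mem_span_pair.1
      ((evS_eq_zero_iff s b).1 (e.resolve_right (evS_h_ne_zero π hint hs hdeg h hh)))
    rw [← hb, show a * fv q + (c * (X 0 - C s) + d * (X 1 - C s)) * h =
      a * fv q + (c * (h * (X 0 - C s)) + d * (h * (X 1 - C s))) by ring]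
    refine Ideal.add_mem _ (Ideal.mul_mem_left _ _ (Ideal.subset_span (by simp)))
      (Ideal.add_mem _ (Ideal.mul_mem_left _ _ (Ideal.subset_span (by simp)))
        (Ideal.mul_mem_left _ _ (Ideal.subset_span (by simp))))
  · intro z hz
    rw [SetLike.mem_coe, RingHom.mem_ker, phiS_eq_zero_iff]
    have hph := phi_h π hint hW h hh
    rcases hz with rfl | rfl | rfl
    · exact ⟨phi_fv q π (pi_ne_zero π hint hW), evS_fv hs⟩
    · exact ⟨by rw [map_mul, hph, zero_mul], by simp [evS]⟩
    · exact ⟨by rw [map_mul, hph, zero_mul], by simp [evS]⟩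

/-! ### Ordinary families -/

variable {p e : ℕ} [hp : Fact p.Prime] (he : 0 < e) (hqe : q = p ^ e)

include hint hq hW hD hh he hqe in
theorem evS_zero_h_dvd_iff :
    (p : ℤ) ∣ evS 0 h ↔ (p : ℤ) ∣ (prodPoly π).coeff D := by
  obtain ⟨h₀, hh₀, -, -, h00⟩ := setF0_h π hint hq hW hD h hh
  obtain ⟨t, ht⟩ := Ideal.mem_span_singleton.1 hh₀
  have key : ∀ z : PP, (setF0 z).coeff 0 = evS 0 z := fun z => by
    have : (Polynomial.aeval (0 : ℤ)).comp setF0 = evS 0 := by
      refine MvPolynomial.algHom_ext fun l => ?_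
      fin_cases l <;> simp [setF0, evS]
    rw [← this, AlgHom.comp_apply, Polynomial.coe_aeval_eq_eval, Polynomial.coeff_zero_eq_eval_zero]
  have e := congrArg (evS 0) ht
  rw [map_sub, map_mul, ← key h₀, h00] at e
  have hfv : (p : ℤ) ∣ evS 0 (fv q) := by
    simp only [fv, map_sub, map_mul, evS, aeval_X, MvPolynomial.aeval_C]
    simp [hqe, dvd_pow_self (p : ℤ) he.ne']
  rw [sub_eq_iff_eq_add.1 e, dvd_add_right (hfv.mul_right _)]

include hint hW hs hdeg hD he hqe in
theorem ordinary_all_iff :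
    (∀ i, 2 * Multiset.card (((minpoly ℤ (π i)).aroots (PadicAlgCl p)).filter (fun z => ‖z‖ = 1)) =
      (minpoly ℤ (π i)).natDegree) ↔ ¬ (p : ℤ) ∣ (prodPoly π).coeff D := by
  set d : ι → ℕ := fun i => (minpoly ℤ (π i)).natDegree / 2 with hdd
  have hd : ∀ i, (minpoly ℤ (π i)).natDegree = 2 * d i := fun i =>
    (Nat.two_mul_div_two_of_even (nonreal_even (hW i) (irreducible_minpoly (hint i))
      (nonreal_of_rational π hint hW hs hdeg i)).1).symm
  have hdiv : ∀ i, ∀ j < d i, (p : ℤ) ∣ (minpoly ℤ (π i)).coeff j := fun i => by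
    have hWi := hW i
    subst hqe
    exact nonreal_divides he hWi (hd i)
  have hsum : D = ∑ i, d i := by
    rw [natDegree_prodPoly π hint, Finset.sum_congr rfl fun i _ => hd i, ← Finset.mul_sum] at hD
    omega
  have hfac : ∀ i, ∃ g : Polynomial (ZMod p),
      (minpoly ℤ (π i)).map (Int.castRingHom (ZMod p)) = Polynomial.X ^ d i * g ∧
        g.coeff 0 = ((minpoly ℤ (π i)).coeff (d i) : ZMod p) := by
    intro i
    obtain ⟨g, hg⟩ : Polynomial.X ^ d i ∣ (minpoly ℤ (π i)).map (Int.castRingHom (ZMod p)) := by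
      rw [Polynomial.X_pow_dvd_iff]
      intro j hj
      rw [Polynomial.coeff_map, eq_intCast, ZMod.intCast_zmod_eq_zero_iff_dvd]
      exact hdiv i j hj
    refine ⟨g, hg, ?_⟩
    have := congrArg (fun f : Polynomial (ZMod p) => f.coeff (d i)) hg
    simpa [Polynomial.coeff_X_pow_mul'] using this.symm
  choose g hg hg0 using hfac
  rw [forall_congr' fun i => ordinary_iff (p := p) (hW i).monic (hd i) (hdiv i),
    ← ZMod.intCast_zmod_eq_zero_iff_dvd _ p]
  have hco : ((prodPoly π).coeff D : ZMod p) = ∏ i, ((minpoly ℤ (π i)).coeff (d i) : ZMod p) := by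
    rw [← eq_intCast (Int.castRingHom (ZMod p)), ← Polynomial.coeff_map, prodPoly,
      Polynomial.map_prod, Finset.prod_congr rfl fun i _ => hg i, Finset.prod_mul_distrib,
      Finset.prod_pow_eq_pow_sum, ← hsum, Polynomial.coeff_X_pow_mul', if_pos le_rfl, Nat.sub_self,
      Polynomial.coeff_zero_eq_eval_zero, Polynomial.eval_prod]
    exact Finset.prod_congr rfl fun i _ => by rw [← hg0, Polynomial.coeff_zero_eq_eval_zero]
  rw [hco, ← ne_eq, Finset.prod_ne_zero_iff]
  simp [ZMod.intCast_zmod_eq_zero_iff_dvd]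

include hint hinj hq hW hs hdeg hD hh he hqe in
theorem gor_of_ordinary_core (hord : ¬ (p : ℤ) ∣ evS 0 h) {A : Type u} [CommRing A] [IsDomain A]
    [LocCoh.IsGorensteinRing A] (π₀ : PP →+* A) (hπ₀ : Function.Surjective π₀)
    (hker₀ : ∀ z, π₀ z = 0 ↔ z ∈ Ideal.span ({fv q} : Set PP)) :
    LocCoh.IsGorensteinRing (phiS q s π).range := by
  have hfv0 : π₀ (fv q) = 0 := (hker₀ _).2 (Ideal.mem_span_singleton_self _)
  have hk := ker_phiS π hint hinj hq hW hs hdeg hD h hh
  -- the projection to the order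
  let Φ : A →+* (phiS q s π).range :=
    RingHom.liftOfSurjective π₀ hπ₀ ⟨(phiS q s π).rangeRestrict.toRingHom, fun z hz => by
      rw [RingHom.mem_ker, hker₀] at hz
      refine RingHom.mem_ker.2 (Subtype.ext ?_)
      show phiS q s π z = 0
      rw [← RingHom.mem_ker, hk]
      exact Ideal.span_mono (by simp) hz⟩
  have hΦ : ∀ z, Φ (π₀ z) = (phiS q s π).rangeRestrict z := fun z =>
    RingHom.liftOfRightInverse_comp_apply _ _ _ _ z
  have hΦs : Function.Surjective Φ := fun y => by
    obtain ⟨z, rfl⟩ := AlgHom.rangeRestrict_surjective _ y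
    exact ⟨π₀ z, hΦ z⟩
  have hkerΦ : RingHom.ker Φ =
      Ideal.span {π₀ h * π₀ (X 0 - C s), π₀ h * π₀ (X 1 - C s)} := by
    ext y
    obtain ⟨z, rfl⟩ := hπ₀ y
    rw [RingHom.mem_ker, hΦ, show (phiS q s π).rangeRestrict z = 0 ↔ z ∈ RingHom.ker (phiS q s π)
      from Subtype.ext_iff, hk, Ideal.mem_span_insert, Ideal.mem_span_pair]
    constructor
    · rintro ⟨a, w, hw, rfl⟩
      obtain ⟨c, d, rfl⟩ := Ideal.mem_span_pair.1 hw
      refine ⟨π₀ c, π₀ d, ?_⟩
      simp only [map_add, map_mul, hfv0, mul_zero, zero_add]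
    · rintro ⟨c, d, hcd⟩
      obtain ⟨c, rfl⟩ := hπ₀ c
      obtain ⟨d, rfl⟩ := hπ₀ d
      rw [← map_mul, ← map_mul, ← map_mul, ← map_mul, ← map_add, eq_comm, ← sub_eq_zero, ← map_sub,
        hker₀, Ideal.mem_span_singleton] at hcd
      obtain ⟨a, ha⟩ := hcd
      exact ⟨a, _, Ideal.mem_span_pair.2 ⟨c, d, rfl⟩, by linear_combination ha⟩
  have hmain : LocCoh.IsGorensteinRing (A ⧸
      Ideal.span {π₀ h * π₀ (X 0 - C s), π₀ h * π₀ (X 1 - C s)}) := by
    refine gorRing_quotient_prod (v := π₀ (X 1)) (σ := π₀ (C s)) ?_ ?_ ?_ ?_ ?_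
    · rw [← map_mul, ← map_mul, ← map_add, hker₀,
        show (X 0 - C s) * X 1 + C s * (X 1 - C s) = (fv q : PP) from ?_]
      · exact Ideal.mem_span_singleton_self _
      · rw [fv, ← hs, map_pow]; ring
    · rw [Ne, hker₀]; exact h_notMem π hint hq h hh
    · rw [Ne, hker₀, mem_span_fv_iff hq.ne', show (X 0 - C s : PP) =
        inF (Polynomial.X - Polynomial.C s) by simp [inF], psi_inF,
        map_eq_zero_iff _ (RatFunc.algebraMap_injective ℚ), Polynomial.map_eq_zero_iff
          (Int.castRingHom ℚ).injective_int]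
      exact Polynomial.X_sub_C_ne_zero s
    · let ev : A →+* ULift.{u} ℤ :=
        RingHom.liftOfSurjective π₀ hπ₀
          ⟨(ULift.ringEquiv (R := ℤ)).symm.toRingHom.comp (evS s).toRingHom, fun z hz => by
            rw [RingHom.mem_ker, hker₀, Ideal.mem_span_singleton] at hz
            obtain ⟨w, rfl⟩ := hz
            exact RingHom.mem_ker.2 (by simp [evS_fv hs])⟩
      have hev : ∀ z, ev (π₀ z) = ULift.up (evS s z) := fun z =>
        RingHom.liftOfRightInverse_comp_apply _ _ _ _ z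
      have hevs : Function.Surjective ev := fun y =>
        ⟨π₀ (C y.down), (hev _).trans (by simp [evS])⟩
      have hevk : RingHom.ker ev = Ideal.span {π₀ (X 0 - C s), π₀ (X 1 - C s)} := by
        ext y
        obtain ⟨z, rfl⟩ := hπ₀ y
        rw [RingHom.mem_ker, hev, Ideal.mem_span_pair]
        constructor
        · intro hz
          obtain ⟨a, b, hab⟩ := Ideal.mem_span_pair.1
            ((evS_eq_zero_iff s z).1 (congrArg ULift.down hz))
          exact ⟨π₀ a, π₀ b, by rw [← map_mul, ← map_mul, ← map_add, hab]⟩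
        · rintro ⟨a, b, hab⟩
          obtain ⟨a, rfl⟩ := hπ₀ a
          obtain ⟨b, rfl⟩ := hπ₀ b
          rw [← map_mul, ← map_mul, ← map_add, eq_comm, ← sub_eq_zero, ← map_sub, hker₀,
            Ideal.mem_span_singleton] at hab
          obtain ⟨w, hw⟩ := hab
          refine ULift.ext _ _ ?_
          show evS s z = 0
          rw [sub_eq_iff_eq_add.1 hw]
          simp [evS_fv hs, show evS s (X 0 : PP) = s by simp [evS],
            show evS s (X 1 : PP) = s by simp [evS]]
      have : IsPrincipalIdealRing (ULift.{u} ℤ) :=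
        IsPrincipalIdealRing.of_surjective (ULift.ringEquiv (R := ℤ)).symm.toRingHom
          (ULift.ringEquiv (R := ℤ)).symm.surjective
      have : IsDomain (ULift.{u} ℤ) :=
        ULift.ringEquiv.injective.isDomain (ULift.ringEquiv (R := ℤ)).toRingHom
      have := Gor18.gorRing_of_pid (ULift.{u} ℤ)
      exact Gor18.gorRing_of_ringEquiv
        ((Ideal.quotEquivOfEq hevk.symm).trans (RingHom.quotientKerEquivOfSurjective hevs)).symm
    · intro P hP hH hx hy hsP
      have hF : π₀ (X 0) ∈ P := by simpa using P.add_mem hx hsP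
      have hV : π₀ (X 1) ∈ P := by simpa using P.add_mem hy hsP
      have hq' : π₀ (C (q : ℤ)) ∈ P := by
        have : π₀ (C (q : ℤ)) = π₀ (X 0) * π₀ (X 1) := by
          have e := hfv0
          rw [fv, map_sub, map_mul, sub_eq_zero] at e
          exact e.symm
        rw [this]; exact P.mul_mem_right _ hF
      rw [hqe, Nat.cast_pow, map_pow, map_pow] at hq'
      have hp' := hP.mem_of_pow_mem _ hq'
      have hc : π₀ (C (evS 0 h)) ∈ P := by
        obtain ⟨a, b, hab⟩ := Ideal.mem_span_pair.1 (sub_evS_mem 0 h)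
        have e := congrArg π₀ hab
        rw [map_add, map_mul, map_mul, map_sub π₀ h, map_zero, sub_zero, sub_zero] at e
        rw [show π₀ (C (evS 0 h)) = π₀ h - (π₀ a * π₀ (X 0) + π₀ b * π₀ (X 1)) by rw [e]; ring]
        exact P.sub_mem hH (P.add_mem (P.mul_mem_left _ hF) (P.mul_mem_left _ hV))
      obtain ⟨u, v, huv⟩ :=
        ((Nat.prime_iff_prime_int.1 hp.out).coprime_iff_not_dvd.2 hord)
      refine hP.ne_top (P.eq_top_iff_one.2 ?_)
      have e1 := congrArg (fun w : ℤ => π₀ (C w)) huv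
      simp only [map_add, map_mul, map_one] at e1
      rw [← e1]
      exact P.add_mem (P.mul_mem_left _ hp') (P.mul_mem_left _ hc)
  exact Gor18.gorRing_of_ringEquiv
    ((Ideal.quotEquivOfEq hkerΦ.symm).trans (RingHom.quotientKerEquivOfSurjective hΦs))

include hint hinj hq hW hs hdeg hD hh he hqe in
/-- Ordinary families give Gorenstein orders. -/
theorem gor_of_ordinary (hord : ¬ (p : ℤ) ∣ evS 0 h) :
    LocCoh.IsGorensteinRing (phiS q s π).range := by
  have hgor := gorRing_PPu.{u}
  set eq := eu.{u}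
  have : IsDomain PPu.{u} := eq.injective.isDomain eq.toRingHom
  set f := eq.symm (fv q) with hf
  let π₀ : PP →+* (PPu.{u} ⧸ Ideal.span ({f} : Set PPu.{u})) :=
    (Ideal.Quotient.mk _).comp eq.symm.toRingHom
  have hπ₀ : Function.Surjective π₀ := Ideal.Quotient.mk_surjective.comp eq.symm.surjective
  have hker₀ : ∀ z, π₀ z = 0 ↔ z ∈ Ideal.span ({fv q} : Set PP) := fun z => by
    show Ideal.Quotient.mk _ (eq.symm z) = 0 ↔ _
    rw [Ideal.Quotient.eq_zero_iff_mem, Ideal.mem_span_singleton, Ideal.mem_span_singleton]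
    exact map_dvd_iff eq.symm
  have hprime : (Ideal.span ({f} : Set PPu.{u})).IsPrime := by
    refine ⟨fun htop => ?_, fun {a b} hab => ?_⟩
    · have h1 : π₀ 1 = 0 := by
        show Ideal.Quotient.mk _ (eq.symm 1) = 0
        rw [Ideal.Quotient.eq_zero_iff_mem, htop]; trivial
      rw [hker₀, mem_span_fv_iff hq.ne', map_one] at h1
      exact one_ne_zero h1
    · have hmem : ∀ w, w ∈ Ideal.span ({f} : Set PPu.{u}) ↔ eq w ∈ Ideal.span ({fv q} : Set PP) :=
        fun w => by
          rw [← hker₀, show π₀ (eq w) = Ideal.Quotient.mk _ (eq.symm (eq w)) from rfl,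
            eq.symm_apply_apply, Ideal.Quotient.eq_zero_iff_mem]
      rw [hmem, map_mul] at hab
      rcases mul_mem_span_fv hq.ne' hab with h1 | h1
      · exact Or.inl ((hmem a).2 h1)
      · exact Or.inr ((hmem b).2 h1)
  have : LocCoh.IsGorensteinRing (PPu.{u} ⧸ Ideal.span ({f} : Set PPu.{u})) :=
    Gor18.gorRing_quotient (IsSMulRegular.of_ne_zero (by
      intro e
      have := congrArg eq e
      rw [hf, eq.apply_symm_apply, map_zero] at this
      have := congrArg setF0 this
      rw [setF0_fv, map_zero, neg_eq_zero] at this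
      simp [hq.ne'] at this))
  have : IsDomain (PPu.{u} ⧸ Ideal.span ({f} : Set PPu.{u})) :=
    (Ideal.Quotient.isDomain_iff_prime _).2 hprime
  exact gor_of_ordinary_core π hint hinj hq hW hs hdeg hD h hh he hqe hord
    (A := PPu.{u} ⧸ Ideal.span ({f} : Set PPu.{u})) π₀ hπ₀ hker₀

include hint hW hs in
theorem finite_range_phiS : Module.Finite ℤ (phiS q s π).range := by
  have hrange : (phiS q s π).range =
      Algebra.adjoin ℤ (Set.range fun i => phiS q s π (X i : PP)) := by
    rw [← Algebra.map_top, ← MvPolynomial.adjoin_range_X, AlgHom.map_adjoin, ← Set.range_comp]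
    rfl
  rw [hrange]
  refine Algebra.finite_adjoin_of_finite_of_isIntegral (Set.finite_range _) ?_
  rintro _ ⟨i, rfl⟩
  show IsIntegral ℤ ((phi q π (X i), ((evS s (X i) : ℤ) : ℚ)))
  exact (isIntegral_phi π hint hW (X i)).pair isIntegral_algebraMap

include hint hq hW hs hD hh he hqe in
/-- The fibre at the bad point. -/
theorem bad_fibre (hord : (p : ℤ) ∣ evS 0 h) {Q : Type u} [CommRing Q] (ρ : PP →+* Q)
    (hρs : Function.Surjective ρ)
    (hρ : ∀ z, ρ z = 0 ↔
      z ∈ Ideal.span ({C (p : ℤ), fv q, h * (X 0 - C s), h * (X 1 - C s)} : Set PP)) :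
    ∃ m : Ideal Q, m.IsPrime ∧ ∃ x y : Q,
      (∀ z ∈ m, ∃ t ∉ m, t * (z * x) = 0) ∧ (∀ z ∈ m, ∃ t ∉ m, t * (z * y) = 0) ∧
        (∀ t ∉ m, t * x ≠ 0) ∧ ∀ c d, d ∉ m → ∀ t ∉ m, t * (d * y - c * x) ≠ 0 := by
  classical
  have hgen : ∀ y ∈ ({C (p : ℤ), fv q, h * (X 0 - C s), h * (X 1 - C s)} : Set PP), ρ y = 0 :=
    fun y hy => (hρ y).2 (Ideal.subset_span hy)
  have hρp : ρ (C (p : ℤ)) = 0 := hgen _ (Set.mem_insert _ _)
  have hps : (p : ℤ) ∣ s := (Nat.prime_iff_prime_int.1 hp.out).dvd_of_dvd_pow (n := 2) (by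
    rw [hs, hqe, Nat.cast_pow]; exact dvd_pow_self _ he.ne')
  have hρs0 : ρ (C s) = 0 := by
    obtain ⟨t, ht⟩ := hps
    rw [ht, map_mul MvPolynomial.C, map_mul, hρp, zero_mul]
  have hqs : (q : ℤ) = s * s := by rw [← sq]; exact hs.symm
  have hρX : ρ (X 0) * ρ (X 1) = 0 := by
    have e := hgen (fv q) (by simp)
    rw [fv, hqs, map_sub, map_mul, map_mul MvPolynomial.C, map_mul, hρs0, zero_mul, sub_zero] at e
    exact e
  have hρh : ∀ i : Fin 2, ρ h * ρ (X i) = 0 := by
    intro i
    have e : ρ (h * (X i - C s)) = 0 := hgen _ (by fin_cases i <;> simp)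
    rwa [map_mul, map_sub, hρs0, sub_zero] at e
  let ε : PP →+* ZMod p := (Int.castRingHom (ZMod p)).comp (evS 0).toRingHom
  have hεapp : ∀ z, ε z = ((evS 0 z : ℤ) : ZMod p) := fun z => rfl
  have hεker : ∀ z, ρ z = 0 → ε z = 0 := by
    intro z hz
    refine (Ideal.span_le (I := RingHom.ker ε)).2 ?_ ((hρ z).1 hz)
    intro y hy
    rw [SetLike.mem_coe, RingHom.mem_ker, hεapp]
    rcases hy with rfl | rfl | rfl | rfl
    · simp [evS]
    · simp [evS, fv, hqe, he.ne']
    all_goals
      rw [map_mul, Int.cast_mul, (ZMod.intCast_zmod_eq_zero_iff_dvd _ p).2 hord, zero_mul]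
  let εQ : Q →+* ZMod p := RingHom.liftOfSurjective ρ hρs ⟨ε, fun z hz => hεker z hz⟩
  have hεQ : ∀ z, εQ (ρ z) = ε z := fun z => RingHom.liftOfRightInverse_comp_apply _ _ _ _ z
  let m : Ideal Q := RingHom.ker εQ
  have hm : m.IsPrime := RingHom.ker_isPrime _
  have hmem : ∀ z, ρ z ∈ m ↔ ε z = 0 := fun z => by rw [RingHom.mem_ker, hεQ]
  -- the axes
  have hax : ∀ i j : Fin 2, (∀ l, l = i ∨ l = j) → j ≠ i → axis p i h ≠ 0 →
      ∃ a, 0 < a ∧ (∀ z ∈ m, ∃ t ∉ m, t * (z * ρ (X i) ^ a) = 0) ∧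
        ∀ t ∉ m, ∀ c, t * ρ (X i) ^ a + c * ρ (X j) ≠ 0 := by
    intro i j hij hne hnz
    obtain ⟨U, hU, hU0⟩ :=
      Polynomial.exists_eq_pow_rootMultiplicity_mul_and_not_dvd (axis p i h) hnz 0
    rw [map_zero, sub_zero] at hU hU0
    set a := Polynomial.rootMultiplicity 0 (axis p i h)
    rw [Polynomial.X_dvd_iff] at hU0
    have ha : 0 < a := by
      rw [Polynomial.rootMultiplicity_pos hnz, Polynomial.IsRoot, ← Polynomial.coeff_zero_eq_eval_zero,
        coeff_axis_zero]
      exact (ZMod.intCast_zmod_eq_zero_iff_dvd _ _).2 hord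
    obtain ⟨U', hU'⟩ := Polynomial.map_surjective (Int.castRingHom (ZMod p))
      ZMod.intCast_surjective U
    have hij0 : ρ (X i) * ρ (X j) = 0 := by
      rcases hij 0 with e0 | e0 <;> rcases hij 1 with e1 | e1
      · exact absurd (e0.trans e1.symm) (by decide)
      · rw [← e0, ← e1]; exact hρX
      · rw [← e0, ← e1, mul_comm]; exact hρX
      · exact absurd (e0.trans e1.symm) (by decide)
    obtain ⟨a₀, ha₀⟩ : ∃ r, a = r + 1 := ⟨a - 1, by omega⟩
    refine ⟨a, ha, fun z hz => ?_, fun t ht c hc => ?_⟩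
    · obtain ⟨v, w, hvw⟩ := exists_eq_of_axis_eq p hij hne (Polynomial.X ^ a * U')
        (z := h) (by rw [Polynomial.map_mul, Polynomial.map_pow, Polynomial.map_X, hU', ← hU])
      have hh0 : ρ h = ρ (X i) ^ a * ρ (Polynomial.aeval (X i : PP) U') + ρ (X j) * ρ w := by
        conv_lhs => rw [hvw]
        rw [map_add, map_add, map_mul, map_mul ρ (C (p : ℤ)), map_mul ρ (X j), hρp, zero_mul,
          add_zero, map_pow, Polynomial.aeval_X, map_mul, map_pow]
      have e : ρ (Polynomial.aeval (X i : PP) U') * (ρ (X i) * ρ (X i) ^ a) = 0 := by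
        have := hρh i
        rw [hh0] at this
        linear_combination this - (ρ w) * hij0
      refine ⟨ρ (Polynomial.aeval (X i : PP) U'), fun hm' => hU0 ?_, ?_⟩
      · rw [hmem, hεapp] at hm'
        rw [← hU', Polynomial.coeff_map, eq_intCast]
        refine Eq.trans ?_ hm'
        rw [← Polynomial.aeval_algHom_apply, show evS 0 (X i) = 0 by
          rw [evS, aeval_X]; fin_cases i <;> rfl, Polynomial.coe_aeval_eq_eval,
          ← Polynomial.coeff_zero_eq_eval_zero]
      · obtain ⟨z, rfl⟩ := hρs z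
        rw [hmem, hεapp] at hz
        obtain ⟨k, hk'⟩ := (ZMod.intCast_zmod_eq_zero_iff_dvd _ _).1 hz
        obtain ⟨a', b', hab⟩ := Ideal.mem_span_pair.1 (sub_evS_mem 0 z)
        rw [map_zero, sub_zero, sub_zero] at hab
        have hz' : ρ z = ρ a' * ρ (X 0) + ρ b' * ρ (X 1) := by
          rw [sub_eq_iff_eq_add.1 hab.symm, hk', map_add, map_add, map_mul, map_mul,
            map_mul MvPolynomial.C, map_mul, hρp, zero_mul, add_zero]
        rw [hz']
        have hkill : ρ (X i) ^ a * ρ (X j) = 0 := by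
          rw [ha₀, pow_succ, mul_assoc, hij0, mul_zero]
        rcases hij 0 with e0 | e0 <;> rcases hij 1 with e1 | e1
        · exact absurd (e0.trans e1.symm) (by decide)
        · subst e0; subst e1
          linear_combination (ρ a') * e + (ρ (Polynomial.aeval (X 0 : PP) U') * ρ b') * hkill
        · subst e0; subst e1
          linear_combination (ρ b') * e + (ρ (Polynomial.aeval (X 1 : PP) U') * ρ a') * hkill
        · exact absurd (e0.trans e1.symm) (by decide)
    · obtain ⟨t, rfl⟩ := hρs t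
      obtain ⟨c, rfl⟩ := hρs c
      rw [← map_pow, ← map_mul, ← map_mul, ← map_add, hρ] at hc
      have hle : Ideal.span ({C (p : ℤ), fv q, h * (X 0 - C s), h * (X 1 - C s)} : Set PP) ≤
          (Ideal.span {(Polynomial.X : Polynomial (ZMod p)) ^ (a + 1)}).comap (axis p i) := by
        rw [Ideal.span_le]
        intro y hy
        rw [SetLike.mem_coe, Ideal.mem_comap, Ideal.mem_span_singleton]
        have hs0 : axis p i (C s) = 0 := by
          obtain ⟨t, ht⟩ := hps
          simp [axis, ht]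
        have hh' : ∀ l, Polynomial.X ^ (a + 1) ∣ axis p i (h * (X l - C s)) := fun l => by
          rw [map_mul, map_sub, hs0, sub_zero]
          rcases hij l with rfl | rfl
          · rw [axis_self, pow_succ, hU]
            exact mul_dvd_mul_right (dvd_mul_right _ _) _
          · rw [axis_other p hne, mul_zero]; exact dvd_zero _
        rcases hy with rfl | rfl | rfl | rfl
        · simp [axis]
        · have : axis p i (fv q) = 0 := by
            rw [fv, hqs, map_sub, map_mul, map_mul MvPolynomial.C, map_mul, hs0, zero_mul, sub_zero]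
            rcases hij 0 with e0 | e0 <;> rcases hij 1 with e1 | e1
            · exact absurd (e0.trans e1.symm) (by decide)
            · rw [e1, axis_other p hne, mul_zero]
            · rw [e0, axis_other p hne, zero_mul]
            · exact absurd (e0.trans e1.symm) (by decide)
          rw [this]; exact dvd_zero _
        · exact hh' 0
        · exact hh' 1
      have e := Ideal.mem_span_singleton.1 (hle hc)
      rw [map_add, map_mul, map_mul, map_pow, axis_self, axis_other p hne, mul_zero, add_zero,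
        pow_succ, mul_comm (axis p i t),
        mul_dvd_mul_iff_left (pow_ne_zero _ Polynomial.X_ne_zero), Polynomial.X_dvd_iff,
        coeff_axis_zero] at e
      exact ht ((hmem t).2 e)
  have hF : axis p 0 h ≠ 0 := by
    intro e0
    obtain ⟨w, hw⟩ := Ideal.mem_span_singleton.1 hh
    have e := congrArg (axis p 0) hw
    rw [map_sub, map_mul, e0, mul_zero, zero_sub, map_mul,
      show axis p 0 (fv q) = 0 by simp [fv, axis, hqe, he.ne'], zero_mul, neg_eq_zero, inF,
      ← Polynomial.aeval_algHom_apply, axis_self] at e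
    have hmap : Polynomial.aeval (Polynomial.X : Polynomial (ZMod p)) (prodPoly π) =
        (prodPoly π).map (Int.castRingHom (ZMod p)) := by
      rw [Polynomial.aeval_def, Polynomial.map]
      congr 1
      try exact RingHom.ext_int _ _
    rw [hmap] at e
    exact ((prodPoly_monic π hint).map _).ne_zero e
  have hV : axis p 1 h ≠ 0 := by
    intro e0
    obtain ⟨h₀, hh₀, hu, -, -⟩ := setF0_h π hint hq hW hD h hh
    obtain ⟨t, ht⟩ := Ideal.mem_span_singleton.1 hh₀
    have hax1 : ∀ z : PP, axis p 1 z = (setF0 z).map (Int.castRingHom (ZMod p)) := fun z => by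
      have : axis p 1 = ((Polynomial.mapRingHom (Int.castRingHom (ZMod p))).toIntAlgHom).comp setF0 :=
        MvPolynomial.algHom_ext fun l => by
          show axis p 1 (X l) = Polynomial.map (Int.castRingHom (ZMod p)) (setF0 (X l))
          rw [setF0, aeval_X, axis, aeval_X]
          fin_cases l
          · show (0 : Polynomial (ZMod p)) = Polynomial.map _ (0 : Polynomial ℤ)
            rw [Polynomial.map_zero]
          · show Polynomial.X = Polynomial.map _ (Polynomial.X : Polynomial ℤ)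
            rw [Polynomial.map_X]
      rw [this]; rfl
    have e := congrArg (axis p 1) ht
    rw [map_sub, e0, zero_sub, map_mul, show axis p 1 (fv q) = 0 by simp [fv, axis, hqe, he.ne'],
      zero_mul, neg_eq_zero, hax1] at e
    have := congrArg (fun f : Polynomial (ZMod p) => f.coeff D) e
    simp only [Polynomial.coeff_map, Polynomial.coeff_zero, eq_intCast] at this
    exact (hu.map (Int.castRingHom (ZMod p))).ne_zero this
  obtain ⟨a, ha, hxa, hxa0⟩ := hax 0 1 (by decide) (by decide) hF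
  obtain ⟨b, -, hxb, hxb0⟩ := hax 1 0 (by decide) (by decide) hV
  refine ⟨m, hm, ρ (X 0) ^ a, ρ (X 1) ^ b, hxa, hxb,
    fun t ht e0 => hxa0 t ht 0 (by rw [zero_mul, add_zero]; exact e0), fun c d hd t ht e0 => ?_⟩
  obtain ⟨a, rfl⟩ : ∃ r, a = r + 1 := ⟨a - 1, by omega⟩
  refine hxb0 (t * d) (hm.mul_notMem ht hd) (-(t * c * ρ (X 0) ^ a)) ?_
  linear_combination e0

include hint hinj hq hW hs hdeg hD hh he hqe in
/-- A non-ordinary family gives an order which is not Gorenstein. -/
theorem not_gor_of_dvd (hord : (p : ℤ) ∣ evS 0 h) :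
    ¬ LocCoh.IsGorensteinRing (phiS q s π).range := by
  intro hgor
  have hfin : Module.Finite ℤ (phiS q s π).range := finite_range_phiS π hint hW hs
  have hreg : IsSMulRegular (phiS q s π).range (p : (phiS q s π).range) := by
    intro a b hab
    have hp0 : (p : ℕ) ≠ 0 := hp.out.ne_zero
    refine Subtype.ext (Prod.ext (funext fun i => ?_) ?_)
    · refine mul_left_cancel₀ (Nat.cast_ne_zero.2 hp0 : ((p : ℕ) : K i) ≠ 0) ?_
      simpa using congrArg (fun z : (phiS q s π).range => (z : ((i : ι) → K i) × ℚ).1 i) hab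
    · refine mul_left_cancel₀ (Nat.cast_ne_zero.2 hp0 : ((p : ℕ) : ℚ) ≠ 0) ?_
      simpa using congrArg (fun z : (phiS q s π).range => (z : ((i : ι) → K i) × ℚ).2) hab
  have hk := ker_phiS π hint hinj hq hW hs hdeg hD h hh
  let ρ := (Ideal.Quotient.mk (Ideal.span {(p : (phiS q s π).range)})).comp
    (phiS q s π).rangeRestrict.toRingHom
  have hρs : Function.Surjective ρ :=
    Ideal.Quotient.mk_surjective.comp (AlgHom.rangeRestrict_surjective _)
  have hρ : ∀ z, ρ z = 0 ↔
      z ∈ Ideal.span ({C (p : ℤ), fv q, h * (X 0 - C s), h * (X 1 - C s)} : Set PP) := by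
    intro z
    show Ideal.Quotient.mk _ ((phiS q s π).rangeRestrict z) = 0 ↔ _
    rw [Ideal.Quotient.eq_zero_iff_mem, Ideal.mem_span_singleton, Ideal.mem_span_insert, ← hk]
    constructor
    · rintro ⟨w, hw⟩
      obtain ⟨w, rfl⟩ := AlgHom.rangeRestrict_surjective _ w
      refine ⟨w, z - w * C (p : ℤ), ?_, by ring⟩
      have e : phiS q s π z = (p : ((i : ι) → K i) × ℚ) * phiS q s π w := congrArg Subtype.val hw
      rw [RingHom.mem_ker, map_sub, map_mul, e, map_natCast, map_natCast]
      ring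
    · rintro ⟨w, y, hy, rfl⟩
      refine ⟨(phiS q s π).rangeRestrict w, Subtype.ext ?_⟩
      show phiS q s π (w * C (p : ℤ) + y) = (p : ((i : ι) → K i) × ℚ) * phiS q s π w
      rw [map_add, RingHom.mem_ker.1 hy, add_zero, map_mul, map_natCast, map_natCast, mul_comm]
  obtain ⟨m, hm, x, y, hx, hy, hx0, hbad⟩ := bad_fibre π hint hq hW hs hD h hh he hqe hord
    (Q := (phiS q s π).range ⧸ Ideal.span {(p : (phiS q s π).range)}) ρ hρs hρ
  have : Finite ((phiS q s π).range ⧸ Ideal.span {(p : (phiS q s π).range)}) := by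
    have : Module.Finite ℤ ((phiS q s π).range ⧸ Ideal.span {(p : (phiS q s π).range)}) :=
      Module.Finite.of_surjective
        (Ideal.Quotient.mk (Ideal.span {(p : (phiS q s π).range)})).toIntAlgHom.toLinearMap
        Ideal.Quotient.mk_surjective
    refine Module.finite_of_fg_torsion _ fun {z} => ?_
    obtain ⟨z', rfl⟩ := hρs z
    refine ⟨⟨(p : ℤ), mem_nonZeroDivisors_of_ne_zero (by exact_mod_cast hp.out.ne_zero)⟩, ?_⟩
    show (p : ℤ) • ρ z' = 0
    rw [← map_zsmul, hρ, zsmul_eq_mul, ← eq_intCast (MvPolynomial.C : ℤ →+* PP)]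
    exact Ideal.mul_mem_right _ _ (Ideal.subset_span (Set.mem_insert _ _))
  obtain ⟨c, d, hd, t, ht, e0⟩ := socle_simple_of_gor hreg m hx hy hx0
  exact hbad c d hd t ht e0

end Groth.Agent.WeilNum32

namespace Groth.Agent.WeilNum32

open MvPolynomial

universe v

variable {ι : Type} [Fintype ι] {K : ι → Type v} [∀ i, Field (K i)] [∀ i, CharZero (K i)]

theorem rational_main (π : ∀ i, K i) (hint : ∀ i, IsIntegral ℤ (π i))
    (hinj : ∀ i j, minpoly ℤ (π i) = minpoly ℤ (π j) → i = j) {q : ℕ} (hq : 0 < q)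
    (hW : ∀ i, WeilPoly q (minpoly ℤ (π i))) {s : ℤ} (hs : s ^ 2 = (q : ℤ))
    (hdeg : ∀ i, (minpoly ℤ (π i)).natDegree ≠ 1) {D : ℕ} (hD : (prodPoly π).natDegree = 2 * D)
    (h : PP) (hh : X 0 ^ D * h - inF (prodPoly π) ∈ Ideal.span ({fv q} : Set PP))
    {p e : ℕ} [Fact p.Prime] (he : 0 < e) (hqe : q = p ^ e)
    (φ : PP →ₐ[ℤ] (((i : ι) → K i) × ℚ)) (hφ : φ = phiS q s π) :
    RingHom.ker φ = Ideal.span {fv q, h * (X 0 - C s), h * (X 1 - C s)} ∧
      (LocCoh.IsGorensteinRing φ.range ↔
        ∀ i, 2 * Multiset.card (((minpoly ℤ (π i)).aroots (PadicAlgCl p)).filter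
          (fun z => ‖z‖ = 1)) = (minpoly ℤ (π i)).natDegree) := by
  subst hφ
  refine ⟨ker_phiS π hint hinj hq hW hs hdeg hD h hh, ?_⟩
  rw [ordinary_all_iff π hint hW hs hdeg hD he hqe,
    ← evS_zero_h_dvd_iff π hint hq hW hD h hh he hqe]
  exact ⟨fun hg hd => not_gor_of_dvd π hint hinj hq hW hs hdeg hD h hh he hqe hd hg,
    gor_of_ordinary π hint hinj hq hW hs hdeg hD h hh he hqe⟩

end Groth.Agent.WeilNum32
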