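import Groth.Agent.WeilNum32.Order
import Mathlib.LinearAlgebra.FreeModule.PID
import Mathlib.RingTheory.AdjoinRoot
import Mathlib.RingTheory.IntegralClosure.IsIntegralClosure.Basic

/-!
# Module theoretic properties of the minimal central order
-/

set_option autoImplicit false

noncomputable section

namespace Groth.Agent.WeilNum32

open MvPolynomial

universe u

theorem WeilPoly.aeval_q_div {q : ℕ} {P : Polynomial ℤ} (h : WeilPoly q P) {L : Type*} [Field L]
    [CharZero L] {π : L} (hπ : π ≠ 0) (he : Polynomial.aeval π P = 0) :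
    Polynomial.aeval ((q : L) / π) P = 0 := by
  refine (mul_eq_zero.1 (?_ : π ^ P.natDegree * _ = 0)).resolve_left (pow_ne_zero _ hπ)
  have key : π ^ P.natDegree * Polynomial.aeval ((q : L) / π) P =
      (P.coeff 0 : L) * Polynomial.aeval π P := by
    rw [Polynomial.aeval_eq_sum_range, Polynomial.aeval_eq_sum_range, Finset.mul_sum,
      Finset.mul_sum, ← Finset.sum_range_reflect (fun i => (P.coeff 0 : L) * _) (P.natDegree + 1)]
    refine Finset.sum_congr rfl fun i hi => ?_
    rw [Finset.mem_range] at hi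
    rw [zsmul_eq_mul, zsmul_eq_mul, div_pow, show P.natDegree + 1 - 1 - i = P.natDegree - i by omega,
      show π ^ P.natDegree = π ^ (P.natDegree - i) * π ^ i by
        rw [← pow_add, Nat.sub_add_cancel (by omega)]]
    have := congrArg (Int.cast (R := L)) (h.coeff_symm (j := i) (by omega))
    push_cast at this
    field_simp
    linear_combination this
  rw [key, he, mul_zero]

variable {ι : Type} [Fintype ι] {K : ι → Type u} [∀ i, Field (K i)] [∀ i, CharZero (K i)]
  (π : ∀ i, K i) (hint : ∀ i, IsIntegral ℤ (π i))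
  (hinj : ∀ i j, minpoly ℤ (π i) = minpoly ℤ (π j) → i = j)
  {q : ℕ} (hq : 0 < q) (hW : ∀ i, WeilPoly q (minpoly ℤ (π i)))

include hint hW in
theorem isIntegral_phi (z : PP) : IsIntegral ℤ (phi q π z) := by
  induction z using MvPolynomial.induction_on with
  | C c =>
    rw [show phi q π (C c) = algebraMap ℤ _ c from MvPolynomial.aeval_C _ _]
    exact isIntegral_algebraMap
  | add a b ha hb => rw [map_add]; exact ha.add hb
  | mul_X a i ha =>
    rw [map_mul]
    refine ha.mul ⟨prodPoly π, prodPoly_monic π hint, ?_⟩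
    rw [← Polynomial.aeval_def]
    funext l
    refine (Polynomial.aeval_algHom_apply (Pi.evalAlgHom ℤ K l) _ _).symm.trans ?_
    have hd : minpoly ℤ (π l) ∣ prodPoly π :=
      Finset.dvd_prod_of_mem (fun j => minpoly ℤ (π j)) (Finset.mem_univ l)
    fin_cases i
    · show Polynomial.aeval (phi q π (X 0) l) _ = 0
      rw [phi_X0]
      exact Polynomial.aeval_eq_zero_of_dvd_aeval_eq_zero hd (minpoly.aeval ℤ (π l))
    · show Polynomial.aeval (phi q π (X 1) l) _ = 0
      rw [phi_X1]
      exact Polynomial.aeval_eq_zero_of_dvd_aeval_eq_zero hd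
        ((hW l).aeval_q_div (pi_ne_zero π hint hW l) (minpoly.aeval ℤ (π l)))

include hint hW in
theorem finite_range : Module.Finite ℤ (phi q π).range := by
  have hrange : (phi q π).range = Algebra.adjoin ℤ (Set.range fun i => phi q π (X i : PP)) := by
    rw [← Algebra.map_top, ← MvPolynomial.adjoin_range_X, AlgHom.map_adjoin, ← Set.range_comp]
    rfl
  rw [hrange]
  refine Algebra.finite_adjoin_of_finite_of_isIntegral (Set.finite_range _) ?_
  rintro _ ⟨i, rfl⟩
  exact isIntegral_phi π hint hW _

include hint hinj hW in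
theorem finrank_range [Module.Finite ℤ (phi q π).range] :
    Module.Free ℤ (phi q π).range ∧
      Module.finrank ℤ (phi q π).range = (prodPoly π).natDegree := by
  classical
  set R := (phi q π).range
  have : Module.IsTorsionFree ℤ R := by
    refine Module.IsTorsionFree.of_smul_eq_zero fun c x hx => ?_
    by_contra! hne
    refine hne.2 (Subtype.ext (funext fun i => ?_))
    have := congrFun (congrArg Subtype.val hx) i
    rw [SetLike.val_smul, Pi.smul_apply, zsmul_eq_mul, ZeroMemClass.coe_zero, Pi.zero_apply,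
      mul_eq_zero] at this
    exact this.resolve_left (Int.cast_ne_zero.2 hne.1)
  have hfree : Module.Free ℤ R := Module.free_of_finite_type_torsion_free'
  refine ⟨hfree, ?_⟩
  set F : R := ⟨phi q π (X 0), AlgHom.mem_range_self _ _⟩
  have hF : ∀ G : Polynomial ℤ, ((Polynomial.aeval F G : R) : (i : ι) → K i) = phi q π (inF G) := by
    intro G
    rw [inF, ← Polynomial.aeval_algHom_apply]
    exact (Polynomial.aeval_algHom_apply R.val F G).symm
  have hker : ∀ G : Polynomial ℤ, (Polynomial.aeval F G : R) = 0 ↔ prodPoly π ∣ G := by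
    intro G
    rw [← ZeroMemClass.coe_eq_zero, hF, prodPoly_dvd_iff π hint hinj, funext_iff]
    simp only [phi_inF, Pi.zero_apply]
  set j : AdjoinRoot (prodPoly π) →ₐ[ℤ] R :=
    AdjoinRoot.liftAlgHom (prodPoly π) (Algebra.ofId ℤ R) F ((hker _).2 dvd_rfl)
  have hjmk : ∀ G, j (AdjoinRoot.mk _ G) = Polynomial.aeval F G := fun G => by
    rw [AdjoinRoot.liftAlgHom_mk]; rfl
  have hjinj : Function.Injective j := by
    rw [injective_iff_map_eq_zero]
    intro y hy
    obtain ⟨G, rfl⟩ := AdjoinRoot.mk_surjective y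
    rw [hjmk, hker] at hy
    exact AdjoinRoot.mk_eq_zero.2 hy
  have hm := prodPoly_monic π hint
  have : Module.Finite ℤ (AdjoinRoot (prodPoly π)) :=
    Module.Finite.of_basis (AdjoinRoot.powerBasis' hm).basis
  have : Module.Free ℤ (AdjoinRoot (prodPoly π)) :=
    Module.Free.of_basis (AdjoinRoot.powerBasis' hm).basis
  have hrk : Module.finrank ℤ (AdjoinRoot (prodPoly π)) = (prodPoly π).natDegree := by
    rw [(AdjoinRoot.powerBasis' hm).finrank, AdjoinRoot.powerBasis'_dim]
  -- a power of `F` moves `R` into `ℤ[F]`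
  have hpow : ∀ x : R, ∃ N, F ^ N * x ∈ LinearMap.range j.toLinearMap := by
    rintro ⟨_, z, rfl⟩
    obtain ⟨N, G, hG⟩ := exists_pow_mul q z
    obtain ⟨w, hw⟩ := Ideal.mem_span_singleton.1 hG
    refine ⟨N, AdjoinRoot.mk _ G, ?_⟩
    show j (AdjoinRoot.mk _ G) = _
    rw [hjmk]
    refine Subtype.ext ?_
    rw [hF]
    have e := congrArg (phi q π) hw
    rw [map_sub, map_mul, map_mul, phi_fv q π (pi_ne_zero π hint hW), zero_mul, sub_eq_zero,
      map_pow] at e
    exact e.symm
  obtain ⟨N, hN⟩ : ∃ N, ∀ x : R, F ^ N * x ∈ LinearMap.range j.toLinearMap := by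
    obtain ⟨s, hs⟩ := Module.Finite.fg_top (R := ℤ) (M := R)
    choose M hM using hpow
    refine ⟨s.sup M, fun x => ?_⟩
    have hx : x ∈ Submodule.span ℤ (s : Set R) := by rw [hs]; trivial
    induction hx using Submodule.span_induction with
    | mem y hy =>
      obtain ⟨d, hd⟩ := Nat.exists_eq_add_of_le (Finset.le_sup (f := M) hy)
      obtain ⟨w, hw⟩ := hM y
      rw [hd, pow_add, mul_comm (F ^ M y), mul_assoc, ← hw]
      refine ⟨AdjoinRoot.root _ ^ d * w, ?_⟩
      show j _ = F ^ d * j w
      rw [map_mul, map_pow, AdjoinRoot.liftAlgHom_root]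
    | zero => rw [mul_zero]; exact zero_mem _
    | add _ _ _ _ h1 h2 => rw [mul_add]; exact add_mem h1 h2
    | smul c _ _ h1 => rw [mul_smul_comm]; exact Submodule.smul_mem _ c h1
  refine le_antisymm ?_ ?_
  · let μ : R →ₗ[ℤ] LinearMap.range j.toLinearMap :=
      (LinearMap.mulLeft ℤ (F ^ N)).codRestrict _ hN
    have hμ : Function.Injective μ := by
      rw [injective_iff_map_eq_zero]
      intro x hx
      have := congrArg (fun y : LinearMap.range j.toLinearMap => ((y : R) : (i : ι) → K i)) hx
      refine Subtype.ext (funext fun i => ?_)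
      have e := congrFun this i
      simp only [μ, LinearMap.codRestrict_apply, LinearMap.mulLeft_apply, MulMemClass.coe_mul,
        SubmonoidClass.coe_pow, ZeroMemClass.coe_zero, Pi.mul_apply, Pi.pow_apply, Pi.zero_apply,
        mul_eq_zero] at e
      refine e.resolve_left (pow_ne_zero _ ?_)
      show phi q π (X 0) i ≠ 0
      rw [phi_X0]
      exact pi_ne_zero π hint hW i
    refine (LinearMap.finrank_le_finrank_of_injective hμ).trans ?_
    exact (LinearMap.finrank_range_le _).trans hrk.le
  · rw [← hrk]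
    exact LinearMap.finrank_le_finrank_of_injective (f := j.toLinearMap) hjinj

include hint hinj hW in
/-- Module structures over the order. -/
theorem exists_module_iff (hq : 0 < q) (T : Type) [AddCommGroup T] [Module.Finite ℤ T]
    [Module.Free ℤ T] (FT : T →ₗ[ℤ] T) :
    (∃ _ : Module (phi q π).range T, ∀ t : T,
        (⟨phi q π (X 0), AlgHom.mem_range_self _ _⟩ : (phi q π).range) • t = FT t) ↔
      (Polynomial.aeval FT (prodPoly π) = 0 ∧
        ∃ VT : T →ₗ[ℤ] T, FT ∘ₗ VT = (q : ℤ) • LinearMap.id) := by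
  classical
  set R := (phi q π).range
  set F : R := ⟨phi q π (X 0), AlgHom.mem_range_self _ _⟩
  set V : R := ⟨phi q π (X 1), AlgHom.mem_range_self _ _⟩
  constructor
  · rintro ⟨_, hFT⟩
    let act : R →+* Module.End ℤ T :=
      { toFun := fun r => (DistribSMul.toAddMonoidHom T r).toIntLinearMap
        map_one' := LinearMap.ext fun t => one_smul R t
        map_mul' := fun a b => LinearMap.ext fun t => mul_smul a b t
        map_zero' := LinearMap.ext fun t => zero_smul R t
        map_add' := fun a b => LinearMap.ext fun t => add_smul a b t }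
    have hF : act.toIntAlgHom F = FT := LinearMap.ext hFT
    refine ⟨?_, act.toIntAlgHom V, ?_⟩
    · rw [← hF, Polynomial.aeval_algHom_apply,
        show Polynomial.aeval F (prodPoly π) = 0 from ?_, map_zero]
      refine Subtype.ext ?_
      rw [ZeroMemClass.coe_zero]
      refine (Polynomial.aeval_algHom_apply R.val F _).symm.trans ?_
      show Polynomial.aeval (phi q π (X 0)) _ = _
      rw [Polynomial.aeval_algHom_apply]
      exact phi_prodPoly π hint q
    · rw [← hF]
      show act.toIntAlgHom F * act.toIntAlgHom V = _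
      rw [← map_mul, show F * V = ((q : ℤ) : R) from ?_]
      · rw [map_intCast]
        exact (zsmul_one _).symm
      · refine Subtype.ext (funext fun i => ?_)
        show phi q π (X 0) i * phi q π (X 1) i = _
        rw [phi_X0, phi_X1, mul_div_cancel₀ _ (pi_ne_zero π hint hW i)]
        simp
  · rintro ⟨hP, VT, hV⟩
    have hq0 : (q : ℤ) ≠ 0 := Int.natCast_ne_zero.2 hq.ne'
    have hinjF : Function.Injective FT := by
      refine LinearMap.ker_eq_bot.1 (by_contra fun hne => ?_)
      have hdet := congrArg LinearMap.det hV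
      rw [LinearMap.det_comp, LinearMap.det_smul, LinearMap.det_id, mul_one] at hdet
      have h0 : LinearMap.det FT = 0 := by
        by_contra h0
        exact hne (LinearMap.ker_eq_bot'.2 fun x hx => by
          by_contra hx0
          exact h0 (LinearMap.det_eq_zero_iff_ker_ne_bot.2
            (Submodule.ne_bot_iff _ |>.2 ⟨x, hx, hx0⟩)))
      rw [h0, zero_mul] at hdet
      exact pow_ne_zero _ hq0 hdet.symm
    have hV' : VT ∘ₗ FT = (q : ℤ) • LinearMap.id := LinearMap.ext fun t => hinjF (by
      have := LinearMap.congr_fun hV (FT t)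
      simp only [LinearMap.comp_apply, LinearMap.smul_apply, LinearMap.id_apply] at this ⊢
      rw [this, map_zsmul])
    let S : Subalgebra ℤ (Module.End ℤ T) := Algebra.adjoin ℤ {FT, VT}
    have hcomm : ∀ a ∈ ({FT, VT} : Set (Module.End ℤ T)), ∀ b ∈ ({FT, VT} : Set _),
        a * b = b * a := by
      rintro a (rfl | rfl) b (rfl | rfl) <;>
        first | rfl | exact hV.trans hV'.symm | exact hV'.trans hV.symm
    let _ : CommRing S := Algebra.adjoinCommRingOfComm ℤ hcomm
    let ψ : PP →ₐ[ℤ] S := MvPolynomial.aeval ![⟨FT, Algebra.subset_adjoin (Or.inl rfl)⟩,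
      ⟨VT, Algebra.subset_adjoin (Or.inr rfl)⟩]
    let Ψ : PP →ₐ[ℤ] Module.End ℤ T := S.val.comp ψ
    have hX0 : Ψ (X 0) = FT := by simp [Ψ, ψ]
    have hX1 : Ψ (X 1) = VT := by simp [Ψ, ψ]
    have hfv : Ψ (fv q) = 0 := by
      rw [fv, map_sub, map_mul, hX0, hX1, show Ψ (C (q : ℤ)) = algebraMap ℤ _ (q : ℤ) from
        Ψ.commutes _, Module.End.mul_eq_comp, hV, sub_eq_zero]
      rfl
    have hkill : ∀ z, phi q π z = 0 → Ψ z = 0 := by
      intro z hz
      obtain ⟨N, g, hg⟩ := ker_exists_pow_mul π hint hinj hW hz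
      obtain ⟨w, hw⟩ := Ideal.mem_span_singleton.1 hg
      have e := congrArg Ψ hw
      rw [map_sub, map_mul Ψ (fv q), hfv, zero_mul, map_mul Ψ, inF,
        ← Polynomial.aeval_algHom_apply, hX0, map_mul, hP, zero_mul, sub_zero, map_pow, hX0] at e
      refine LinearMap.ext fun t => ?_
      have e' := LinearMap.congr_fun e t
      rw [Module.End.mul_apply, LinearMap.zero_apply] at e'
      have : Function.Injective (FT ^ N : Module.End ℤ T) := by
        rw [Module.End.coe_pow]; exact hinjF.iterate N
      exact this (by rw [e', LinearMap.zero_apply, map_zero])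
    have hsurj : Function.Surjective (phi q π).rangeRestrict := AlgHom.rangeRestrict_surjective _
    let Φ : R →+* Module.End ℤ T := RingHom.liftOfSurjective (phi q π).rangeRestrict.toRingHom hsurj
      ⟨Ψ.toRingHom, fun z hz => hkill z (congrArg Subtype.val hz)⟩
    refine ⟨Module.compHom T Φ, fun t => ?_⟩
    show Φ F t = FT t
    rw [show Φ F = FT from ?_]
    rw [← hX0]
    exact RingHom.liftOfRightInverse_comp_apply _ _ _ ⟨Ψ.toRingHom, fun z hz => hkill z (congrArg Subtype.val hz)⟩ (X 0)

include hint hinj hW in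
theorem exists_module_iff_of_eq (hq : 0 < q) (T : Type) [AddCommGroup T] [Module.Finite ℤ T]
    [Module.Free ℤ T] (FT : T →ₗ[ℤ] T) (φ : PP →ₐ[ℤ] ((i : ι) → K i)) (hφ : φ = phi q π) :
    (∃ _ : Module φ.range T, ∀ t : T,
        (⟨φ (X 0), AlgHom.mem_range_self _ _⟩ : φ.range) • t = FT t) ↔
      (Polynomial.aeval FT (∏ i, minpoly ℤ (π i)) = 0 ∧
        ∃ VT : T →ₗ[ℤ] T, FT ∘ₗ VT = (q : ℤ) • LinearMap.id) := by
  subst hφ
  exact exists_module_iff π hint hinj hW hq T FT

include hint hinj hW in
theorem finrank_range_of_eq (φ : PP →ₐ[ℤ] ((i : ι) → K i)) (hφ : φ = phi q π) :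
    Module.Finite ℤ φ.range ∧ Module.Free ℤ φ.range ∧
      Module.finrank ℤ φ.range = ∑ i, (minpoly ℤ (π i)).natDegree := by
  subst hφ
  have := finite_range π hint hW
  obtain ⟨h1, h2⟩ := finrank_range π hint hinj hW
  exact ⟨this, h1, h2.trans (natDegree_prodPoly π hint)⟩

end Groth.Agent.WeilNum32
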