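import Groth.Agent.WeilNum32.PicSurj
import Groth.Agent.WeilNum32.Ring

/-!
# Picard groups of the orders of two nested families
-/

set_option autoImplicit false

noncomputable section

namespace Groth.Agent.WeilNum32

open MvPolynomial

universe u

theorem exists_mul_eq_intCast {S : Type*} [CommRing S] [Module.Finite ℤ S] {x : S}
    (hx : ∀ y, x * y = 0 → y = 0) : ∃ (y : S) (N : ℤ), N ≠ 0 ∧ x * y = N := by
  have hint : IsIntegral ℤ x := IsIntegral.of_finite ℤ x
  have hd := Polynomial.X_mul_divX_add (minpoly ℤ x)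
  refine ⟨-Polynomial.aeval x (minpoly ℤ x).divX, (minpoly ℤ x).coeff 0, fun h0 => ?_, ?_⟩
  · rw [h0, map_zero, add_zero] at hd
    have hm : (minpoly ℤ x).divX.Monic :=
      Polynomial.monic_X.of_mul_monic_left (hd.symm ▸ minpoly.monic hint)
    have hz : Polynomial.aeval x (minpoly ℤ x).divX = 0 := by
      refine hx _ ?_
      have := congrArg (Polynomial.aeval x) hd
      rwa [map_mul, Polynomial.aeval_X, minpoly.aeval] at this
    have h1 := minpoly.min ℤ x hm hz
    have h2 : (minpoly ℤ x).divX.degree < (minpoly ℤ x).degree :=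
      Polynomial.degree_divX_lt (minpoly.monic hint).ne_zero
    exact absurd h1 (not_le.2 h2)
  · have := congrArg (Polynomial.aeval x) hd
    rw [map_add, map_mul, Polynomial.aeval_X, Polynomial.aeval_C, minpoly.aeval,
      algebraMap_int_eq, eq_intCast] at this
    linear_combination -this

variable {ι ι' : Type} [Fintype ι] [Fintype ι'] (emb : ι' → ι)
  {K : ι → Type u} [∀ i, Field (K i)] [∀ i, CharZero (K i)] (π : ∀ i, K i)
  (hint : ∀ i, IsIntegral ℤ (π i))
  (hinj : ∀ i j, minpoly ℤ (π i) = minpoly ℤ (π j) → i = j) (hemb : Function.Injective emb)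
  {q : ℕ} (hW : ∀ i, WeilPoly q (minpoly ℤ (π i)))

include hint hinj hemb hW in
theorem pic_map_surjective (φ : PP →ₐ[ℤ] ((i : ι) → K i)) (hφ : φ = phi q π)
    (φ' : PP →ₐ[ℤ] ((i : ι') → K (emb i))) (hφ' : φ' = phi q fun i => π (emb i))
    (hle : RingHom.ker φ ≤ RingHom.ker φ') :
    Function.Surjective (CommRing.Pic.mapRingHom (Ideal.Quotient.factor hle)) := by
  classical
  subst hφ hφ'
  set π' : (i : ι') → K (emb i) := fun i => π (emb i) with hπ'
  have hint' : ∀ i, IsIntegral ℤ (π' i) := fun i => hint (emb i)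
  have hinj' : ∀ i j, minpoly ℤ (π' i) = minpoly ℤ (π' j) → i = j :=
    fun i j h => hemb (hinj _ _ h)
  have hW' : ∀ i, WeilPoly q (minpoly ℤ (π' i)) := fun i => hW (emb i)
  obtain ⟨hfin, hfree, -⟩ := finrank_range_of_eq π' hint' hinj' hW' _ rfl
  let eS : (PP ⧸ RingHom.ker (phi q π')) ≃ₗ[ℤ] (phi q π').range :=
    ((Ideal.quotientEquivAlgOfEq ℤ (show RingHom.ker (phi q π') =
        RingHom.ker (phi q π').rangeRestrict from (AlgHom.ker_rangeRestrict _).symm)).trans
      (Ideal.quotientKerAlgEquivOfSurjective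
        (AlgHom.rangeRestrict_surjective (phi q π')))).toLinearEquiv
  have : Module.Finite ℤ (PP ⧸ RingHom.ker (phi q π')) := Module.Finite.equiv eS.symm
  have : Module.Free ℤ (PP ⧸ RingHom.ker (phi q π')) := Module.Free.of_equiv eS.symm
  let Pu : Polynomial ℤ :=
    ∏ j ∈ Finset.univ.filter (fun j => j ∉ Set.range emb), minpoly ℤ (π j)
  have hPu : ∀ i : ι', Polynomial.aeval (π' i) Pu ≠ 0 := by
    intro i h0
    rw [map_prod, Finset.prod_eq_zero_iff] at h0
    obtain ⟨j, hj, hj0⟩ := h0
    rw [Finset.mem_filter] at hj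
    have hd := minpoly.isIntegrallyClosed_dvd (hint (emb i)) hj0
    have := (minpoly.irreducible (hint (emb i))).associated_of_dvd (minpoly.irreducible (hint j)) hd
    exact hj.2 ⟨i, hinj _ _ (Polynomial.eq_of_monic_of_associated (minpoly.monic (hint _))
      (minpoly.monic (hint _)) this)⟩
  set x : PP ⧸ RingHom.ker (phi q π') := Ideal.Quotient.mk _ (inF Pu)
  obtain ⟨y, N, hN, hxy⟩ := exists_mul_eq_intCast (x := x) fun y hy => by
    obtain ⟨y, rfl⟩ := Ideal.Quotient.mk_surjective y
    rw [← map_mul, Ideal.Quotient.eq_zero_iff_mem, RingHom.mem_ker, map_mul] at hy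
    rw [Ideal.Quotient.eq_zero_iff_mem, RingHom.mem_ker]
    funext i
    have := congrFun hy i
    rw [Pi.mul_apply, phi_inF, Pi.zero_apply, mul_eq_zero] at this
    exact this.resolve_left (hPu i)
  obtain ⟨y, rfl⟩ := Ideal.Quotient.mk_surjective y
  let _ : Algebra (PP ⧸ RingHom.ker (phi q π)) (PP ⧸ RingHom.ker (phi q π')) :=
    (Ideal.Quotient.factor hle).toAlgebra
  show Function.Surjective (CommRing.Pic.mapAlgebra (PP ⧸ RingHom.ker (phi q π))
    (PP ⧸ RingHom.ker (phi q π')))
  refine pic_surjective (Ideal.Quotient.factor_surjective hle) hN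
    (Ideal.Quotient.mk _ (inF Pu * y)) ?_ ?_
  · show Ideal.Quotient.factor hle _ = _
    rw [Ideal.Quotient.factor_mk, map_mul]
    exact hxy
  · intro r hr
    obtain ⟨r, rfl⟩ := Ideal.Quotient.mk_surjective r
    change Ideal.Quotient.factor hle _ = 0 at hr
    rw [Ideal.Quotient.factor_mk, Ideal.Quotient.eq_zero_iff_mem, RingHom.mem_ker] at hr
    rw [← map_mul, Ideal.Quotient.eq_zero_iff_mem, RingHom.mem_ker]
    funext j
    rw [map_mul, map_mul, Pi.mul_apply, Pi.mul_apply, phi_inF, Pi.zero_apply]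
    by_cases hj : j ∈ Set.range emb
    · obtain ⟨i, rfl⟩ := hj
      have hcoord : phi q π r (emb i) = phi q π' r i := by
        have e : (Pi.evalAlgHom ℤ K (emb i)).comp (phi q π) =
            (Pi.evalAlgHom ℤ (fun l => K (emb l)) i).comp (phi q π') :=
          MvPolynomial.algHom_ext fun l => by
            fin_cases l <;> simp [phi, π']
        exact AlgHom.congr_fun e r
      rw [hcoord, congrFun hr i, Pi.zero_apply, zero_mul]
    · have h0 : Polynomial.aeval (π j) Pu = 0 := by
        rw [map_prod]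
        exact Finset.prod_eq_zero (Finset.mem_filter.2 ⟨Finset.mem_univ j, hj⟩) (minpoly.aeval ℤ (π j))
      rw [h0]
      ring

end Groth.Agent.WeilNum32
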