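import Mathlib.RingTheory.PicardGroup
import Mathlib.GroupTheory.FiniteAbelian.Basic
import Mathlib.RingTheory.Ideal.Quotient.Operations
import Mathlib.LinearAlgebra.FreeModule.Basic

/-!
# Surjectivity of restriction of line bundles to a union of components
-/

set_option autoImplicit false

noncomputable section

namespace Groth.Agent.WeilNum32

open TensorProduct

universe u

theorem finite_quotient_of_intCast_mem {S : Type u} [CommRing S] [Module.Finite ℤ S] {M : ℤ}
    (hM : M ≠ 0) {c : Ideal S} (hc : (M : S) ∈ c) : Finite (S ⧸ c) := by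
  have : Module.Finite ℤ (S ⧸ c) :=
    Module.Finite.of_surjective (Ideal.Quotient.mk c).toIntAlgHom.toLinearMap
      Ideal.Quotient.mk_surjective
  refine Module.finite_of_fg_torsion _ fun {z} => ?_
  obtain ⟨z, rfl⟩ := Ideal.Quotient.mk_surjective z
  refine ⟨⟨M, mem_nonZeroDivisors_of_ne_zero hM⟩, ?_⟩
  show M • Ideal.Quotient.mk c z = 0
  rw [← map_zsmul, Ideal.Quotient.eq_zero_iff_mem, zsmul_eq_mul]
  exact Ideal.mul_mem_right _ _ hc

/-- An invertible module has a value congruent to `1` modulo a given nonzero integer. -/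
theorem exists_value_congr {S : Type u} [CommRing S] [Module.Finite ℤ S] {M : ℤ} (hM : M ≠ 0)
    (L : Type u) [AddCommGroup L] [Module S L] [Module.Invertible S L] :
    ∃ (φ : Module.Dual S L) (l : L), φ l - 1 ∈ Ideal.span {(M : S)} := by
  classical
  set c : Ideal S := Ideal.span {(M : S)}
  have hfin := finite_quotient_of_intCast_mem hM (Ideal.mem_span_singleton_self (M : S) : (M : S) ∈ c)
  let ι := {P : Ideal S // P.IsMaximal ∧ c ≤ P}
  have : Finite ι := by
    refine Finite.of_injective (fun P : ι => P.1.map (Ideal.Quotient.mk c)) fun P P' e => ?_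
    have := congrArg (Ideal.comap (Ideal.Quotient.mk c)) e
    simp only [Ideal.comap_map_of_surjective' _ Ideal.Quotient.mk_surjective, Ideal.mk_ker] at this
    rw [sup_eq_left.2 P.2.2, sup_eq_left.2 P'.2.2] at this
    exact Subtype.ext this
  have : Fintype ι := Fintype.ofFinite ι
  have hex : ∀ P : ι, ∃ (ξ : Module.Dual S L) (l : L), ξ l ∉ P.1 := by
    intro P
    by_contra! hne
    obtain ⟨t, ht⟩ := (Module.Invertible.bijective (R := S) (M := L)).2 1
    have hmem : ∀ t, contractLeft S L t ∈ P.1 := by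
      intro t
      induction t with
      | zero => simp
      | tmul ξ l => rw [contractLeft_apply]; exact hne ξ l
      | add a b ha hb => rw [map_add]; exact add_mem ha hb
    exact P.2.1.ne_top (P.1.eq_top_iff_one.2 (ht ▸ hmem t))
  choose ξ l hl using hex
  have hcop : Pairwise (fun P P' : ι => IsCoprime P.1 P'.1) := fun P P' hne =>
    Ideal.isCoprime_iff_sup_eq.2 (P.2.1.coprime_of_ne P'.2.1 fun e => hne (Subtype.ext e))
  choose e he using fun P : ι =>
    Ideal.exists_forall_sub_mem_ideal (I := fun P' : ι => P'.1) hcop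
      (fun P' => if P' = P then 1 else 0)
  set φ : Module.Dual S L := ∑ P, e P • ξ P
  set l₀ : L := ∑ P, e P • l P
  have hnot : ∀ P : ι, φ l₀ ∉ P.1 := by
    intro P hmem
    have hmk : ∀ P' : ι, Ideal.Quotient.mk P.1 (e P') = if P = P' then 1 else 0 := fun P' => by
      rw [(Ideal.Quotient.mk_eq_mk_iff_sub_mem _ _).2 (he P' P)]
      split_ifs <;> simp
    have h0 := Ideal.Quotient.eq_zero_iff_mem.2 hmem
    simp only [φ, l₀, LinearMap.sum_apply, LinearMap.smul_apply, map_sum, map_smul, smul_eq_mul,
      map_mul, hmk, Finset.mul_sum, ite_mul, one_mul, zero_mul, mul_ite, mul_zero,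
      ] at h0
    rw [Finset.sum_eq_single P (fun b _ hb => by simp [Ne.symm hb]) (by simp),
      Finset.sum_eq_single P (fun b _ hb => by simp [Ne.symm hb]) (by simp), if_pos rfl,
      if_pos rfl] at h0
    exact hl P (Ideal.Quotient.eq_zero_iff_mem.1 h0)
  have hu : IsUnit (Ideal.Quotient.mk c (φ l₀)) := by
    by_contra hne
    obtain ⟨Q, hQ, hmemQ⟩ := exists_max_ideal_of_mem_nonunits hne
    exact hnot ⟨Q.comap (Ideal.Quotient.mk c),
      Ideal.comap_isMaximal_of_surjective _ Ideal.Quotient.mk_surjective,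
      fun x hx => by
        show Ideal.Quotient.mk c x ∈ Q
        rw [Ideal.Quotient.eq_zero_iff_mem.2 hx]; exact zero_mem _⟩ hmemQ
  obtain ⟨v, hv⟩ := hu.exists_left_inv
  obtain ⟨v, rfl⟩ := Ideal.Quotient.mk_surjective v
  refine ⟨v • φ, l₀, ?_⟩
  rw [← Ideal.Quotient.eq_zero_iff_mem, LinearMap.smul_apply, smul_eq_mul, map_sub, map_mul, hv,
    map_one, sub_self]

theorem mem_nonZeroDivisors_of_congr_one {S : Type u} [CommRing S] [Module.Finite ℤ S]
    [Module.Free ℤ S] {z : S} (hz : z - 1 ∈ Ideal.span {(2 : S)}) : z ∈ nonZeroDivisors S := by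
  refine mem_nonZeroDivisors_iff_right.2 fun y hy => ?_
  obtain ⟨s, hs⟩ := Ideal.mem_span_singleton.1 hz
  have key : ∀ m : ℕ, ∃ w : S, y = ((2 : ℤ) ^ m) • w := by
    intro m
    induction m with
    | zero => exact ⟨y, by simp⟩
    | succ m ih =>
      obtain ⟨w, hw⟩ := ih
      refine ⟨-(w * s), ?_⟩
      have e : y = -(y * (2 * s)) := by rw [← hs]; linear_combination hy
      have e2 : y * (2 * s) = ((2 : ℤ) ^ (m + 1)) • (w * s) := by
        rw [hw, zsmul_eq_mul, zsmul_eq_mul]; push_cast; ring
      rw [e, e2, smul_neg]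
  let b := Module.Free.chooseBasis ℤ S
  refine b.repr.injective (Finsupp.ext fun i => ?_)
  rw [map_zero, Finsupp.zero_apply]
  by_contra hne
  obtain ⟨w, hw⟩ := key (b.repr y i).natAbs
  have e := congrArg (fun x => b.repr x i) hw
  simp only [map_zsmul, Finsupp.smul_apply, smul_eq_mul] at e
  have h1 : ((2 : ℤ) ^ (b.repr y i).natAbs) ∣ b.repr y i := ⟨_, e⟩
  have h2 := Int.natAbs_le_of_dvd_ne_zero h1 hne
  rw [Int.natAbs_pow] at h2
  exact absurd h2 (not_le.2 (Nat.lt_two_pow_self))

/-- An ideal containing a nonzerodivisor whose dual generates the ring is invertible. -/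
theorem invertible_of_surjective {R : Type u} [CommRing R] (A : Ideal R) {Z : R}
    (hZ : Z ∈ A) (hreg : Z ∈ nonZeroDivisors R) (hsurj : Function.Surjective (contractLeft R A)) :
    Module.Invertible R A := by
  have hsym : ∀ (η : Module.Dual R A) (a b : A), (a : R) * η b = (b : R) * η a := fun η a b => by
    rw [← smul_eq_mul, ← smul_eq_mul, ← map_smul, ← map_smul]
    congr 1
    exact Subtype.ext (mul_comm _ _)
  have hdual : ∀ (η ξ : Module.Dual R A) (c : A), η c • ξ = ξ c • η := by
    intro η ξ c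
    refine LinearMap.ext fun x => ?_
    have h1 : η c * ξ x * Z * Z = ξ c * η x * Z * Z := by
      have e1 := hsym η ⟨Z, hZ⟩ c
      have e2 := hsym ξ ⟨Z, hZ⟩ x
      have e3 := hsym ξ ⟨Z, hZ⟩ c
      have e4 := hsym η ⟨Z, hZ⟩ x
      calc η c * ξ x * Z * Z = (Z * η c) * (Z * ξ x) := by ring
        _ = ((c : R) * η ⟨Z, hZ⟩) * ((x : R) * ξ ⟨Z, hZ⟩) := by rw [← e1, ← e2]
        _ = ((c : R) * ξ ⟨Z, hZ⟩) * ((x : R) * η ⟨Z, hZ⟩) := by ring
        _ = (Z * ξ c) * (Z * η x) := by rw [← e3, ← e4]
        _ = ξ c * η x * Z * Z := by ring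
    rw [LinearMap.smul_apply, LinearMap.smul_apply, smul_eq_mul, smul_eq_mul]
    rw [mul_comm _ Z, mul_comm _ Z, mul_comm (ξ c * η x * Z), mul_comm _ Z] at h1
    exact (mul_cancel_left_mem_nonZeroDivisors hreg).1
      ((mul_cancel_left_mem_nonZeroDivisors hreg).1 h1)
  have hswap : ∀ t t' : Module.Dual R A ⊗[R] A,
      contractLeft R A t' • t = contractLeft R A t • t' := by
    intro t t'
    induction t with
    | zero => simp
    | add a b ha hb => rw [smul_add, ha, hb, map_add, add_smul]
    | tmul ξ a =>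
      induction t' with
      | zero => simp
      | add c d hc hd => rw [map_add, add_smul, hc, hd, smul_add]
      | tmul η c =>
        rw [contractLeft_apply, contractLeft_apply, TensorProduct.smul_tmul', hdual,
          TensorProduct.smul_tmul, TensorProduct.smul_tmul', TensorProduct.smul_tmul]
        congr 1
        refine Subtype.ext ?_
        show ξ c * (a : R) = ξ a * (c : R)
        rw [mul_comm, hsym, mul_comm]
  refine ⟨⟨?_, hsurj⟩⟩
  rw [injective_iff_map_eq_zero]
  intro t ht
  obtain ⟨t₁, ht₁⟩ := hsurj 1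
  have := hswap t t₁
  rwa [ht₁, ht, one_smul, zero_smul] at this

variable {R S : Type u} [CommRing R] [CommRing S] [Algebra R S]

/-- Restriction of line bundles along a quotient by a component is surjective. -/
theorem pic_surjective (hπ : Function.Surjective (algebraMap R S)) [Module.Finite ℤ S]
    [Module.Free ℤ S] {N : ℤ} (hN : N ≠ 0) (j₀ : R) (hj : algebraMap R S j₀ = N)
    (hI : ∀ r, algebraMap R S r = 0 → r * j₀ = 0) :
    Function.Surjective (CommRing.Pic.mapAlgebra R S) := by
  intro P
  obtain ⟨φ, l₀, hφ⟩ := exists_value_congr (S := S) (M := 2 * N) (mul_ne_zero two_ne_zero hN) P.AsModule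
  obtain ⟨σ, hσ⟩ := Ideal.mem_span_singleton.1 hφ
  obtain ⟨σ, rfl⟩ := hπ σ
  set z := φ l₀ with hz
  set Z : R := 1 + 2 * j₀ * σ with hZdef
  have hπZ : algebraMap R S Z = z := by
    rw [hZdef, map_add, map_mul, map_mul, map_one, hj, map_ofNat]
    push_cast at hσ
    linear_combination -hσ
  have hIZ : ∀ r, algebraMap R S r = 0 → r * Z = r := fun r hr => by
    rw [hZdef, mul_add, mul_one, mul_comm (2 : R) j₀, ← mul_assoc, ← mul_assoc, hI r hr]
    simp
  have hzreg : z ∈ nonZeroDivisors S := mem_nonZeroDivisors_of_congr_one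
    (Ideal.mem_span_singleton.2 ⟨(N : S) * algebraMap R S σ, by push_cast at hσ; linear_combination hσ⟩)
  have hZreg : Z ∈ nonZeroDivisors R := mem_nonZeroDivisors_iff_right.2 fun r hr => by
    have h0 : algebraMap R S r = 0 := by
      refine mem_nonZeroDivisors_iff_right.1 hzreg _ ?_
      rw [← hπZ, ← map_mul, hr, map_zero]
    rw [← hIZ r h0, hr]
  set ev : Module.Dual S P.AsModule →ₗ[S] S := Module.Dual.eval S P.AsModule l₀ with hev
  set A : Ideal R := Ideal.comap (algebraMap R S) (LinearMap.range φ)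
  set B : Ideal R := Ideal.comap (algebraMap R S) (LinearMap.range ev)
  have hid : ∀ (ξ : Module.Dual S P.AsModule) (l : P.AsModule), φ l * ξ l₀ = z * ξ l := fun ξ l => by
    have := congrArg (TensorProduct.lift ((LinearMap.mul S S).compl₁₂ φ ξ))
      (Module.Invertible.tmul_comm (R := S) (m₁ := l) (m₂ := l₀))
    simpa using this
  have hZA : Z ∈ A := by
    show algebraMap R S Z ∈ LinearMap.range φ
    rw [hπZ]; exact ⟨l₀, rfl⟩
  -- the products lie in `(Z)` and generate it
  have hAB : ∀ a ∈ A, ∀ b ∈ B, Z ∣ a * b := by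
    intro a ha b hb
    obtain ⟨la, hla⟩ := ha
    obtain ⟨ξ, hξ⟩ := hb
    obtain ⟨r, hr⟩ := hπ (ξ la)
    have h0 : algebraMap R S (a * b - Z * r) = 0 := by
      rw [map_sub, map_mul, map_mul, ← hla, ← hξ, hπZ, hr, hev, Module.Dual.eval_apply, hid, sub_self]
    exact ⟨r + (a * b - Z * r), by
      have := hIZ _ h0
      linear_combination (norm := ring_nf) -this⟩
  choose! dv hdv using hAB
  let mkξ : ∀ b ∈ B, Module.Dual R A := fun b hb =>
    { toFun := fun a => dv a b
      map_add' := fun a a' => (mul_cancel_left_mem_nonZeroDivisors hZreg).1 (by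
        rw [mul_add, ← hdv _ (a + a').2 b hb, ← hdv _ a.2 b hb, ← hdv _ a'.2 b hb, Submodule.coe_add,
          add_mul])
      map_smul' := fun r a => (mul_cancel_left_mem_nonZeroDivisors hZreg).1 (by
        rw [RingHom.id_apply, smul_eq_mul, ← hdv _ (r • a).2 b hb, Submodule.coe_smul, smul_eq_mul,
          mul_left_comm Z, ← hdv _ a.2 b hb, mul_assoc]) }
  have hgen : Z ∈ A * B := by
    have hmap : z ∈ (A * B).map (algebraMap R S) := by
      rw [Ideal.map_mul, Ideal.map_comap_of_surjective _ hπ, Ideal.map_comap_of_surjective _ hπ]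
      obtain ⟨t, ht⟩ := (Module.Invertible.bijective (R := S) (M := P.AsModule)).2 1
      have hmem : ∀ t, z * contractLeft S P.AsModule t ∈
          (LinearMap.range φ : Ideal S) * (LinearMap.range ev : Ideal S) := by
        intro t
        induction t with
        | zero => simp
        | add a b ha hb => rw [map_add, mul_add]; exact add_mem ha hb
        | tmul ξ l =>
          rw [contractLeft_apply, ← hid]
          exact Ideal.mul_mem_mul ⟨l, rfl⟩ ⟨ξ, by rw [hev, Module.Dual.eval_apply]⟩
      simpa [ht] using hmem t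
    obtain ⟨w, hw, hwz⟩ := (Ideal.mem_map_iff_of_surjective _ hπ).1 hmap
    have h0 : algebraMap R S (Z - w) = 0 := by rw [map_sub, hπZ, hwz, sub_self]
    have hmem : (Z - w) * Z ∈ A * B := by
      rw [mul_comm (Z - w)]
      exact Ideal.mul_mem_mul hZA (show algebraMap R S (Z - w) ∈ LinearMap.range ev by
        rw [h0]; exact zero_mem _)
    rw [hIZ _ h0] at hmem
    simpa using add_mem hmem hw
  have hsurj : Function.Surjective (contractLeft R A) := by
    have key : ∀ w ∈ A * B, ∃ t, Z * contractLeft R A t = w := by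
      intro w hw
      induction hw using Submodule.mul_induction_on' with
      | mem_mul_mem a ha b hb =>
        exact ⟨mkξ b hb ⊗ₜ ⟨a, ha⟩, by rw [contractLeft_apply]; exact (hdv a ha b hb).symm⟩
      | add x _ y _ hx hy =>
        obtain ⟨t, ht⟩ := hx
        obtain ⟨t', ht'⟩ := hy
        exact ⟨t + t', by rw [map_add, mul_add, ht, ht']⟩
    obtain ⟨t, ht⟩ := key Z hgen
    intro r
    refine ⟨r • t, ?_⟩
    rw [map_smul, (mul_cancel_left_mem_nonZeroDivisors hZreg).1 (ht.trans (mul_one Z).symm),
      smul_eq_mul, mul_one]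
  have := invertible_of_surjective A hZA hZreg hsurj
  refine ⟨CommRing.Pic.mk R A, ?_⟩
  -- compare with the base change
  have hinj : Function.Injective φ := by
    rw [injective_iff_map_eq_zero]
    intro l hl
    have h0 : ∀ ξ : Module.Dual S P.AsModule, ξ l = 0 := fun ξ => by
      have := hid ξ l
      rw [hl, zero_mul, eq_comm] at this
      exact mem_nonZeroDivisors_iff_right.1 hzreg _ (by rwa [mul_comm])
    exact (Module.forall_dual_apply_eq_zero_iff S l).1 h0
  let e := LinearEquiv.ofInjective φ hinj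
  let g : A →ₗ[R] LinearMap.range φ :=
    { toFun := fun a => ⟨algebraMap R S a, a.2⟩
      map_add' := fun a b => Subtype.ext (map_add _ _ _)
      map_smul' := fun r a => Subtype.ext (by
        show algebraMap R S (r * a) = r • algebraMap R S a
        rw [map_mul, Algebra.smul_def]) }
  let G : S ⊗[R] A →ₗ[S] LinearMap.range φ := g.liftBaseChange S
  have hG : Function.Surjective G := fun y => by
    obtain ⟨a, ha⟩ := hπ y.1
    refine ⟨1 ⊗ₜ ⟨a, by show algebraMap R S a ∈ LinearMap.range φ; rw [ha]; exact y.2⟩, ?_⟩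
    rw [LinearMap.liftBaseChange_tmul, one_smul]
    exact Subtype.ext ha
  have : Module.Invertible S (LinearMap.range φ) := Module.Invertible.congr e
  have hbij := Module.Invertible.bijective_of_surjective hG
  rw [CommRing.Pic.mapAlgebra_apply, CommRing.Pic.mk_eq_iff]
  exact ⟨((TensorProduct.AlgebraTensorModule.congr (LinearEquiv.refl S S)
    (CommRing.Pic.mk.linearEquiv R A)).trans (LinearEquiv.ofBijective G hbij)).trans e.symm⟩

end Groth.Agent.WeilNum32
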